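import Cfsg.Agent.Lib.H5.Reynolds
import Cfsg.Agent.Lib.H5.OrderP2
import Cfsg.Agent.Lib.H4.Misc
import Cfsg.Agent.Lib.H1.Frattini

/-!
# Few characters of height zero in the principal block
-/

set_option autoImplicit false
set_option linter.unusedSectionVars false

open Cfsg Cfsg.Agent.H3 Cfsg.Agent.H5 Subgroup Finset
open scoped ComplexConjugate

namespace Cfsg.Agent.K0

section Num

variable {p : ℕ} [hp : Fact p.Prime]

/-- `v (p - v)` -/
def phi (t : ZMod p) : ℤ := t.val * (p - t.val)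

theorem phi_cast {x : ℤ} (h0 : 0 ≤ x) (h1 : x ≤ p) : phi (x : ZMod p) = x * (p - x) := by
  rw [phi, ZMod.val_intCast]
  rcases h1.lt_or_eq with h | rfl
  · rw [Int.emod_eq_of_lt h0 h]
  · simp

theorem phi_abs {x : ℤ} (h : |x| ≤ p) : phi (x : ZMod p) = |x| * (p - |x|) := by
  rcases le_total 0 x with h0 | h0
  · rw [abs_of_nonneg h0] at h ⊢; exact phi_cast h0 h
  · rw [abs_of_nonpos h0] at h ⊢
    rw [show (x : ZMod p) = ((p + x : ℤ) : ZMod p) by simp, phi_cast (by omega) (by omega)]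
    ring

theorem sum_phi (h2 : p ≠ 2) : ∑ t : ZMod p, phi t = 2 * ∑ t : ZMod p, t.valMinAbs ^ 2 := by
  have hb : ∀ t : ZMod p, |2 * t.valMinAbs| ≤ p := fun t => by
    have := ZMod.natAbs_valMinAbs_le t
    rw [abs_mul, ← Int.natCast_natAbs t.valMinAbs]
    simp only [Nat.abs_ofNat]
    omega
  have h20 : (2 : ZMod p) ≠ 0 := fun h => h2 ((Nat.prime_dvd_prime_iff_eq hp.out Nat.prime_two).1
    ((ZMod.natCast_eq_zero_iff 2 p).1 (by exact_mod_cast h)))
  have e1 : ∑ t : ZMod p, phi (2 * t) = ∑ t : ZMod p, phi t :=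
    Equiv.sum_comp (Equiv.mulLeft₀ 2 h20) phi
  have e2 : ∀ t : ZMod p, 2 * phi t - phi (2 * t) = 2 * t.valMinAbs ^ 2 := fun t => by
    have a1 := phi_abs (hb t)
    have a2 := phi_abs (p := p) (x := t.valMinAbs) (by
      have := hb t; rw [abs_mul] at this; simp only [Nat.abs_ofNat] at this
      have := abs_nonneg t.valMinAbs; omega)
    push_cast at a1
    rw [ZMod.coe_valMinAbs] at a2
    rw [a1, a2, abs_mul, ← sq_abs t.valMinAbs]
    simp only [Nat.abs_ofNat]
    ring
  rw [mul_sum, ← sum_congr rfl fun t _ => e2 t, sum_sub_distrib, e1, ← mul_sum]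
  ring

theorem sum_vma_mul {a : ZMod p} (ha : a ≠ 0) :
    ∑ t : ZMod p, (t * a).valMinAbs ^ 2 = ∑ t : ZMod p, t.valMinAbs ^ 2 :=
  Equiv.sum_comp (Equiv.mulRight₀ a ha) fun t => t.valMinAbs ^ 2

theorem sum_vma_pos : 0 < ∑ t : ZMod p, t.valMinAbs ^ 2 :=
  sum_pos' (fun _ _ => sq_nonneg _) ⟨1, mem_univ _, by
    have : (1 : ZMod p).valMinAbs ≠ 0 := by simp
    positivity⟩

theorem sq_two (x : ZMod 2) : x ^ 2 = if x ≠ 0 then 1 else 0 := by revert x; decide

theorem sum_phi_two (h : p = 2) : ∑ t : ZMod p, phi t = ∑ t : ZMod p, t.valMinAbs ^ 2 := by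
  subst h
  have : hp = Nat.fact_prime_two := rfl
  subst this
  decide

end Num

section Burn

variable {p : ℕ} [hp : Fact p.Prime] {M : Ideal AlgInt} [PMod p M] {G : Type*} [Group G] [Finite G]

theorem card_le_sum {a : G → ℂ} (ha : IsGeneralizedCharacter G a) (S : Finset G)
    (hS : ∀ g ∈ S, ∀ m : ℕ, m.Coprime (Nat.card G) → g ^ m ∈ S) (h0 : ∀ g ∈ S, a g ≠ 0)
    (hd : ∀ g ∈ S, a g / p ∈ locRing M) : (p : ℝ) ^ 2 * S.card ≤ ∑ g ∈ S, ‖a g‖ ^ 2 := by
  classical
  have hint : IsIntegral ℤ (∏ g ∈ S, a g) :=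
    IsIntegral.prod _ fun g _ => IsGeneralized_isIntegral ha g
  obtain ⟨q, hq⟩ := exists_rat_of_forall_ringEquiv hint.tower_top (fun σ => by
    obtain ⟨m, hm, hσ⟩ := ringHom_exists_char_pow (G := G) σ.toRingHom
    rw [map_prod]
    have hinj : Function.Injective (fun g : G => g ^ m) := (powCoprime hm.symm).injective
    refine Finset.prod_bij (fun g _ => g ^ m) (fun g hg => hS g hg m hm)
      (fun _ _ _ _ h => hinj h) (fun g hg => ?_) (fun g _ => hσ a ha g)
    have := Finset.surj_on_of_inj_on_of_card_le (s := S) (t := S) (fun g _ => g ^ m)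
      (fun g hg => hS g hg m hm) (fun _ _ _ _ h => hinj h) le_rfl g hg
    obtain ⟨x, hx, rfl⟩ := this
    exact ⟨x, hx, rfl⟩)
  obtain ⟨z, rfl⟩ := exists_int_of_isIntegral_rat (hq ▸ hint)
  rw [Rat.cast_intCast] at hq
  have hz : z ≠ 0 := by
    rintro rfl
    simp only [Int.cast_zero, Finset.prod_eq_zero_iff] at hq
    obtain ⟨g, hg, h⟩ := hq
    exact h0 g hg h
  have hp0 : (0 : ℝ) < p := by exact_mod_cast hp.out.pos
  have hdv : (p : ℤ) ^ S.card ∣ z := pow_dvd_of_div_mem (M := M) (by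
    rw [← hq, ← prod_const, ← prod_div_distrib]
    exact prod_mem hd)
  have h1 : 1 ≤ ∏ g ∈ S, ‖a g‖ / p := by
    rw [prod_div_distrib, prod_const, ← norm_prod, hq, Complex.norm_intCast, one_le_div (by positivity)]
    exact_mod_cast Int.le_of_dvd (abs_pos.2 hz) ((dvd_abs _ _).2 hdv)
  have hpos : ∀ g ∈ S, 0 < (‖a g‖ / p) ^ 2 := fun g hg =>
    pow_pos (div_pos (norm_pos_iff.mpr (h0 g hg)) hp0) _
  have h2 : 0 ≤ ∑ g ∈ S, Real.log ((‖a g‖ / p) ^ 2) := by
    rw [← Real.log_prod (fun g hg => (hpos g hg).ne'), Finset.prod_pow]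
    exact Real.log_nonneg (one_le_pow₀ h1)
  have h3 : ∑ g ∈ S, Real.log ((‖a g‖ / p) ^ 2) ≤ ∑ g ∈ S, ((‖a g‖ / p) ^ 2 - 1) :=
    Finset.sum_le_sum fun g hg => Real.log_le_sub_one_of_pos (hpos g hg)
  simp only [sum_sub_distrib, div_pow, ← sum_div, sum_const, nsmul_eq_mul, mul_one] at h3
  rw [mul_comm, ← le_div_iff₀ (by positivity)]
  simp only [div_pow] at h2
  linarith

/-- An integral combination of the irreducible characters. -/
noncomputable def cmb (u : IrrCharacter G → ℤ) : G → ℂ :=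
  ∑ χ : IrrCharacter G, (u χ : ℂ) • (χ : G → ℂ)

theorem cmb_gen (u : IrrCharacter G → ℤ) : IsGeneralizedCharacter G (cmb u) :=
  IsGeneralized_sum _ fun χ _ => IsGeneralized_intCast_smul _ (IsIrrCharacter_isGeneralized χ.2)

theorem cmb_apply (u : IrrCharacter G → ℤ) (g : G) :
    cmb u g = ∑ χ : IrrCharacter G, (u χ : ℂ) * (χ : G → ℂ) g := by simp [cmb]

theorem cmb_norm [Fintype G] (u : IrrCharacter G → ℤ) :
    ∑ g, ‖cmb u g‖ ^ 2 = Nat.card G * ((∑ χ, u χ ^ 2 : ℤ) : ℝ) := by
  have h := classInner_sum_sum_irr (G := G) (fun χ => (u χ : ℂ)) (fun χ => (u χ : ℂ))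
  rw [← cmb, classInner_self_eq] at h
  simp only [map_intCast, ← sq] at h
  have h2 : (Nat.card G : ℝ)⁻¹ * ∑ g, ‖cmb u g‖ ^ 2 = ((∑ χ, u χ ^ 2 : ℤ) : ℝ) := by
    apply Complex.ofReal_injective
    rw [h]; push_cast; rfl
  have h0 : (Nat.card G : ℝ) ≠ 0 := by exact_mod_cast Nat.card_pos.ne'
  rw [← h2]; field_simp

variable (M) in
open Classical in
/-- The coefficients of the principal block part of the regular character. -/
noncomputable def rr (χ : IrrCharacter G) : ℤ :=
  if χ ∈ principalBlock M G then charDegree (χ : G → ℂ) else 0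

theorem cmb_rr (g : G) :
    cmb (rr M) g = Nat.card G * blockCoeff (principalBlock M G) g⁻¹ := by
  classical
  rw [blockCoeff_eq, ← mul_assoc, mul_inv_cancel₀ (card_ne_zero_complex G), one_mul, cmb_apply,
    sum_fs_eq_ite]
  refine sum_congr rfl fun χ _ => ?_
  rw [rr]
  split_ifs
  · rw [irr_apply_inv, Complex.conj_conj, Int.cast_natCast, irr_charDegree]
  · simp

theorem cmb_rr_div (hG : p ∣ Nat.card G) (g : G) : cmb (rr M) g / p ∈ locRing M := by
  obtain ⟨m, hm⟩ := hG
  rw [cmb_rr, hm, Nat.cast_mul, mul_assoc, mul_div_cancel_left₀ _ (p_ne_zero M)]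
  exact mul_mem (natCast_mem _ _) (blk_coeff_mem isPBlock_principal _)

theorem key1 (hG : p ∣ Nat.card G) {E : G → ℂ} (hE : IsGeneralizedCharacter G E) (t : ℤ)
    {a : G → ℂ} (ha : ∀ g, a g = 2 * (t * cmb (rr M) g - p * E g) - p) (S : Finset G)
    (hS : ∀ g ∈ S, ∀ m : ℕ, m.Coprime (Nat.card G) → g ^ m ∈ S) :
    (p : ℝ) ^ 2 * S.card ≤ ∑ g ∈ S, ‖a g‖ ^ 2 := by
  have hp0 := p_ne_zero M
  have hF : IsGeneralizedCharacter G ((t : ℂ) • cmb (rr M) - ((p : ℤ) : ℂ) • E) :=
    IsGeneralized_sub (IsGeneralized_intCast_smul _ (cmb_gen _)) (IsGeneralized_intCast_smul _ hE)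
  have hFd : ∀ g, (t * cmb (rr M) g - p * E g) / p ∈ locRing M := fun g => by
    rw [sub_div, mul_div_assoc, mul_div_cancel_left₀ _ hp0]
    exact sub_mem (mul_mem (intCast_mem _ _) (cmb_rr_div hG g))
      (mem_locRing_of_isIntegral (IsGeneralized_isIntegral hE g))
  refine card_le_sum (M := M) ?_ S hS (fun g _ h => ?_) (fun g _ => ?_)
  · have := IsGeneralized_sub (IsGeneralized_intCast_smul 2 hF)
      (IsGeneralized_intCast_smul p (isGeneralized_one (G := G)))
    convert this using 1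
    funext g
    simp [ha]
  · rw [ha] at h
    have h1 : t * cmb (rr M) g - p * E g = ((p : ℤ) : ℂ) / ((2 : ℤ) : ℂ) := by
      push_cast; linear_combination h / 2
    have h2 := IsGeneralized_isIntegral hF g
    simp only [Pi.sub_apply, Pi.smul_apply, smul_eq_mul, Int.cast_natCast] at h2
    rw [h1] at h2
    have h3 : (2 : ℤ) ∣ p := int_dvd_of_isIntegral_div (by norm_num) h2
    have h4 : p = 2 := ((Nat.prime_dvd_prime_iff_eq Nat.prime_two hp.out).1
      (by exact_mod_cast h3)).symm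
    have h5 := hFd g
    rw [h1] at h5
    have h6 : (p : ℤ) ^ 1 ∣ 1 := pow_dvd_of_div_mem (M := M) (by
      convert h5 using 1
      rw [h4]; norm_num)
    rw [h4] at h6
    norm_num at h6
  · rw [ha, sub_div, mul_div_assoc, div_self hp0]
    exact sub_mem (mul_mem (by exact_mod_cast natCast_mem (locRing M) 2) (hFd g)) (one_mem _)

theorem key2 [Fintype G] (hG : p ∣ Nat.card G) {E : G → ℂ} (hE : IsGeneralizedCharacter G E)
    (t : ℤ) {a : G → ℂ} (ha : ∀ g, a g = 2 * (t * cmb (rr M) g - p * E g) - p)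
    (hN : ∑ g, ‖a g‖ ^ 2 ≤ (p : ℝ) ^ 2 * Nat.card G) {H : Type*} [Group H] [Fintype H]
    (j : H →* G) (hj : Function.Injective j) :
    ∑ h, ‖a (j h)‖ ^ 2 ≤ (p : ℝ) ^ 2 * Nat.card H := by
  classical
  have h1 := key1 hG hE t ha (univ.image j)ᶜ (fun g hg m hm => by
    simp only [Finset.mem_compl, Finset.mem_image, Finset.mem_univ, true_and] at hg ⊢
    exact fun h => hg ((H4.pow_mem_iff_of_coprime j.range hm).1 h))
  have h2 := sum_add_sum_compl (univ.image j) fun g => ‖a g‖ ^ 2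
  rw [sum_image fun _ _ _ _ h => hj h] at h2
  have h3 := card_add_card_compl (univ.image j)
  rw [card_image_of_injective _ hj, card_univ, ← Nat.card_eq_fintype_card,
    ← Nat.card_eq_fintype_card] at h3
  rw [← h3] at hN
  push_cast at hN
  linarith

open Classical in
theorem exists_c [Fintype G] (P : Sylow p G) : ∃ (L : Subgroup G) (j : P × L →* G) (c : ℤ),
    Function.Injective j ∧ ¬ (p : ℤ) ∣ c ∧ ∀ l : P →* ℂˣ,
      classInner (fun h => cmb (rr M) (j h)) (fun h => (l h.1 : ℂ)) = c := by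
  obtain ⟨L, hL, hLm⟩ := exists_pReg_centralizer_subgroup P
  have hc : ∀ (x : P) (y : L), Commute ((P : Subgroup G).subtype x) (L.subtype y) := fun x y =>
    (mem_centralizer_iff.1 ((hLm y).1 y.2).2 x x.2)
  let j : P × L →* G := MonoidHom.noncommCoprod _ _ hc
  have hj : ∀ (x : P) (y : L), j (x, y) = x * y := fun x y => rfl
  have hcop : ∀ (x : P) (y : L), (orderOf (x : G)).Coprime (orderOf (y : G)) := fun x y => by
    obtain ⟨k, hk⟩ := IsPGroup.iff_orderOf.1 P.isPGroup' x
    rw [← orderOf_coe] at hk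
    rw [hk]
    exact Nat.Coprime.pow_left _ ((Nat.Prime.coprime_iff_not_dvd hp.out).2 ((hLm y).1 y.2).1)
  have hsing : ∀ (x : P) (y : L), x ≠ 1 → p ∣ orderOf (j (x, y)) := fun x y hx => by
    rw [hj, Commute.orderOf_mul_eq_mul_orderOf_of_coprime (show Commute (x : G) y from hc x y)
      (hcop x y)]
    refine Dvd.dvd.mul_right ?_ _
    obtain ⟨k, hk⟩ := IsPGroup.iff_orderOf.1 P.isPGroup' x
    rw [orderOf_coe, hk]
    refine dvd_pow_self p ?_
    rintro rfl
    exact hx (orderOf_eq_one_iff.1 (by simpa using hk))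
  have hinj : Function.Injective j := by
    rw [injective_iff_map_eq_one]
    rintro ⟨x, y⟩ h
    by_cases hx : x = 1
    · subst hx
      rw [hj] at h
      simp only [OneMemClass.coe_one, one_mul, OneMemClass.coe_eq_one] at h
      rw [h]; rfl
    · have := hsing x y hx
      rw [h, orderOf_one, Nat.dvd_one] at this
      exact absurd this hp.out.ne_one
  have hB := blk_idem_mem (isPBlock_principal (M := M) (G := G))
  have hcl : ∀ l : P →* ℂˣ, classInner (fun h => cmb (rr M) (j h)) (fun h => (l h.1 : ℂ)) =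
      (Nat.card (P × L) : ℂ)⁻¹ * ∑ y : L, cmb (rr M) (y : G) := fun l => by
    rw [classInner, Fintype.sum_prod_type, Finset.sum_eq_single 1]
    · simp [hj]
    · intro x _ hx
      refine sum_eq_zero fun y _ => ?_
      rw [cmb_rr, blockCoeff_eq_zero_of_pSing (p := p) (ZO.og hB) (by rw [orderOf_inv]; exact hsing x y hx)]
      simp
    · simp
  obtain ⟨c, hcc⟩ := IsGeneralized_classInner (IsGeneralized_comp j (cmb_gen (rr M)))
    (IsIrrCharacter_isGeneralized (isIrrCharacter_linear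
      ((1 : P →* ℂˣ).comp (MonoidHom.fst P L))))
  have hc1 : (Nat.card (P × L) : ℂ)⁻¹ * ∑ y : L, cmb (rr M) (y : G) = c := by
    rw [← hcl 1, ← hcc]; rfl
  refine ⟨L, j, c, hinj, fun hd => ?_, fun l => (hcl l).trans hc1⟩
  have hb := blk_coeff_mem (isPBlock_principal (M := M) (G := G))
  have e1 : (c : ℂ) * Nat.card L = (P : Subgroup G).index *
      ∑ y : L, blockCoeff (principalBlock M G) y := by
    rw [← hc1, Nat.card_prod]
    simp only [cmb_rr, ← mul_sum]
    rw [← (P : Subgroup G).card_mul_index,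
      ← Equiv.sum_comp (Equiv.inv L) fun y : L => blockCoeff (principalBlock M G) y]
    have := card_ne_zero_complex P
    have := card_ne_zero_complex L
    simp only [Equiv.inv_apply, InvMemClass.coe_inv]
    push_cast
    field_simp
  have e2 : ∑ g, blockCoeff (principalBlock M G) g = 1 := by
    have := om_blockIdem_of_mem (triv_mem_principal (M := M) (G := G))
    rw [om_eq, ev_eq_sum] at this
    simpa using this
  have e3 : res M (∑ y : L, blockCoeff (principalBlock M G) y) = 1 := by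
    rw [res_sum _ fun _ _ => hb _, ← res_one (M := M), ← e2, res_sum _ fun _ _ => hb _,
      sum_conj_invariant (resField_p_eq_zero M) P.isPGroup' _ (fun u _ g => by
        rw [blockCoeff_conj]), ← sum_subtype (univ.filter (· ∈ L)) (by simp)
          (fun g => res M (blockCoeff (principalBlock M G) g)), sum_filter]
    refine sum_congr rfl fun g _ => ?_
    by_cases hg : p ∣ orderOf g
    · rw [blockCoeff_eq_zero_of_pSing (ZO.og hB) hg]; simp
    · simp only [hLm, hg, not_false_eq_true, true_and]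
  have e4 := congrArg (res M) e1
  rw [res_mul (intCast_mem _ _) (natCast_mem _ _), res_mul (natCast_mem _ _)
    (sum_mem fun _ _ => hb _), e3, mul_one,
    res_eq_zero_of_mem (intCast_mem_locIdeal_iff.2 hd), zero_mul] at e4
  exact res_natCast_ne_zero P.not_dvd_index e4.symm

theorem key3 [Fintype G] (hG : p ∣ Nat.card G) (P : Sylow p G) : ∃ t : ZMod p,
    ∀ (E : G → ℂ) (_ : IsGeneralizedCharacter G E) (a : G → ℂ) (_ : IsGeneralizedCharacter G a)
      (_ : ∀ g, a g = 2 * (((t.val : ℤ) : ℂ) * cmb (rr M) g - p * E g) - p)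
      (_ : ∑ g, ‖a g‖ ^ 2 ≤ (p : ℝ) ^ 2 * Nat.card G),
      (2 * (p / 2)) ^ 2 * ((_root_.commutator P).index - 1) ≤ p ^ 2 := by
  classical
  obtain ⟨L, j, c, hj, hc, hl⟩ := exists_c (M := M) P
  have hc0 : (c : ZMod p) ≠ 0 := fun h => hc ((ZMod.intCast_zmod_eq_zero_iff_dvd c p).1 h)
  refine ⟨((p / 2 : ℕ) : ZMod p) / c, fun E hE a hag ha hN => ?_⟩
  generalize ht : (((((p / 2 : ℕ) : ZMod p) / c).val : ℕ) : ℤ) = t at ha
  have htc : (p : ℤ) ∣ t * c - (p / 2 : ℕ) := by
    rw [← ZMod.intCast_zmod_eq_zero_iff_dvd, ← ht]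
    rw [Int.cast_sub, Int.cast_mul, Int.cast_natCast, Int.cast_natCast, ZMod.natCast_zmod_val,
      div_mul_cancel₀ _ hc0, sub_self]
  have h1 := key2 hG hE t ha hN j hj
  obtain ⟨w, hw⟩ := IsGeneralized_exists_int_sum (IsGeneralized_comp j hag)
  have hw' : ∀ h, a (j h) = cmb w h := fun h => congrFun hw h
  simp only [hw', cmb_norm] at h1
  have hH : (0 : ℝ) < Nat.card (P × L) := by exact_mod_cast Nat.card_pos
  rw [mul_comm, mul_le_mul_iff_left₀ hH] at h1
  have h2 : ∑ χ, w χ ^ 2 ≤ (p : ℤ) ^ 2 := by exact_mod_cast h1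
  let μ : (P →* ℂˣ) → IrrCharacter (P × L) := fun l =>
    ⟨_, isIrrCharacter_linear (l.comp (MonoidHom.fst P L))⟩
  have hμ : Function.Injective μ := fun l l' h => by
    ext x
    exact congrFun (congrArg Subtype.val h) (x, 1)
  have h3 : ∀ l : P →* ℂˣ, l ≠ 1 → ((2 * (p / 2) : ℕ) : ℤ) ^ 2 ≤ w (μ l) ^ 2 := fun l hl1 => by
    obtain ⟨e, he⟩ := IsGeneralized_classInner (IsGeneralized_comp j hE)
      (IsIrrCharacter_isGeneralized (μ l).2)
    have e1 := classInner_sum_irr (fun χ => (w χ : ℂ)) (μ l)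
    have e2 : (fun h => a (j h)) = (2 * t : ℂ) • (fun h => cmb (rr M) (j h)) -
        (2 * p : ℂ) • (fun h => E (j h)) - (p : ℂ) • (μ 1 : P × L → ℂ) := by
      funext h
      simp [ha, μ]
      ring
    rw [← hw, e2, classInner_sub_left, classInner_sub_left, classInner_smul_left,
      classInner_smul_left, classInner_smul_left, he, classInner_irr,
      if_neg (fun h => hl1 (hμ h).symm)] at e1
    have e3 : classInner (fun h => cmb (rr M) (j h)) (μ l : P × L → ℂ) = c := hl l
    rw [e3] at e1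
    have e4 : w (μ l) = 2 * (t * c - p * e) := by
      apply Int.cast_injective (α := ℂ)
      push_cast
      rw [← e1]; ring
    obtain ⟨d, hd⟩ := htc
    have e5 : w (μ l) = 2 * ((p / 2 : ℕ) + p * (d - e)) := by rw [e4]; linear_combination 2 * hd
    rw [e5, sq_le_sq, abs_of_nonneg (by positivity)]
    have hp2 : 2 * (p / 2) ≤ p := Nat.mul_div_le p 2
    generalize p / 2 = q at hp2 ⊢
    push_cast
    rcases le_or_gt 0 (d - e) with h | h
    · rw [abs_of_nonneg (by positivity)]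
      nlinarith [mul_nonneg (Int.natCast_nonneg p) h]
    · refine le_abs.2 (Or.inr ?_)
      have : (p : ℤ) * (d - e) ≤ -p := by nlinarith [Int.natCast_nonneg p]
      omega
  have := Fintype.ofFinite (P →* ℂˣ)
  have h4 : ∑ l ∈ univ.erase (1 : P →* ℂˣ), w (μ l) ^ 2 ≤ ∑ χ, w χ ^ 2 := by
    rw [← sum_image (f := fun χ => w χ ^ 2) fun _ _ _ _ h => hμ h]
    exact sum_le_sum_of_subset_of_nonneg (subset_univ _) fun _ _ _ => sq_nonneg _
  have h5 := card_nsmul_le_sum _ _ _ fun l (hl : l ∈ univ.erase (1 : P →* ℂˣ)) =>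
    h3 l (ne_of_mem_erase hl)
  rw [card_erase_of_mem (mem_univ _), card_univ, ← Nat.card_eq_fintype_card,
    card_monoidHom_units, nsmul_eq_mul, mul_comm] at h5
  exact_mod_cast h5.trans (h4.trans h2)

theorem card_eq_of_le {P : Type*} [Group P] [Finite P] [Nontrivial P] (hP : IsPGroup p P)
    (h : (2 * (p / 2)) ^ 2 * ((_root_.commutator P).index - 1) ≤ p ^ 2) :
    p ≤ 3 ∧ Nat.card P = p := by
  have h1 := H1.commutator_le_frattini hP
  have h2 : _root_.commutator P ≠ ⊤ := fun h => H1.frattini_ne_top (top_le_iff.1 (h ▸ h1))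
  obtain ⟨k, hk⟩ := hP.index (_root_.commutator P)
  have hk0 : k ≠ 0 := by
    rintro rfl
    exact h2 (index_eq_one.1 (by simpa using hk))
  have hp2 := hp.out.two_le
  have h3 : p ≤ p ^ k := Nat.le_self_pow hk0 p
  have h4 : p ≤ 3 := by
    by_contra h4
    have e1 : p - 1 ≤ 2 * (p / 2) := by omega
    have e2 : (p - 1) ^ 2 * (p - 1) ≤ p ^ 2 :=
      (Nat.mul_le_mul (Nat.pow_le_pow_left e1 2) (by omega)).trans h
    obtain ⟨q, rfl⟩ : ∃ q, p = q + 4 := ⟨p - 4, by omega⟩
    simp only [show q + 4 - 1 = q + 3 by omega] at e2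
    nlinarith [Nat.zero_le (q ^ 3), Nat.zero_le (q ^ 2)]
  have h5 : (_root_.commutator P).index = p := by
    rw [hk] at h ⊢
    have : p ^ k ≤ p := by
      interval_cases p <;> omega
    omega
  have h6 : frattini P = _root_.commutator P :=
    ((H1.isCoatom_of_index_prime hp.out h5).le_iff.1 h1).resolve_left H1.frattini_ne_top
  have h7 : IsCyclic P := H1.isCyclic_of_isCyclic_frattini_quotient
    (isCyclic_of_prime_card (p := p) (by rw [← index_eq_card, h6, h5]))
  refine ⟨h4, ?_⟩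
  rw [← h5, (commutator_eq_bot_iff_center_eq_top P).2, index_bot]
  let := h7.commGroup
  exact CommGroup.center_eq_top

variable (M) in
open Classical in
/-- The coefficients of the test character. -/
noncomputable def uu (t : ZMod p) (χ : IrrCharacter G) : ℤ :=
  if χ = trivChar G then t.val else (t * (rr M χ : ZMod p)).valMinAbs

include p in
theorem rr_triv : rr M (trivChar G) = 1 := by
  rw [rr, if_pos triv_mem_principal]
  apply Int.cast_injective (α := ℂ)
  rw [Int.cast_natCast, irr_charDegree]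
  simp

open Classical in
theorem key4 [Fintype G] (t : ZMod p) : ∃ (E a : G → ℂ), IsGeneralizedCharacter G E ∧
    IsGeneralizedCharacter G a ∧
    (∀ g, a g = 2 * (((t.val : ℤ) : ℂ) * cmb (rr M) g - p * E g) - p) ∧
    ∑ g, ‖a g‖ ^ 2 = Nat.card G * ((p ^ 2 + 4 * (∑ χ ∈ (univ : Finset (IrrCharacter G)).erase
      (trivChar G), (t * (rr M χ : ZMod p)).valMinAbs ^ 2 - phi t) : ℤ) : ℝ) := by
  have h1 : ∀ χ : IrrCharacter G, ∃ e : ℤ, t.val * rr M χ - uu M t χ = p * e := fun χ => by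
    refine (ZMod.intCast_zmod_eq_zero_iff_dvd _ p).1 ?_
    rw [uu]
    split_ifs with h
    · rw [h, rr_triv]; simp
    · simp
  choose e he using h1
  refine ⟨cmb e, cmb fun χ => 2 * uu M t χ - if χ = trivChar G then p else 0, cmb_gen _, cmb_gen _,
    fun g => ?_, ?_⟩
  · have h2 : ∀ χ, (uu M t χ : ℂ) = ((t.val : ℤ) : ℂ) * rr M χ - p * e χ := fun χ => by
      have := congrArg (Int.cast : ℤ → ℂ) (he χ)
      push_cast at this ⊢
      linear_combination -this
    simp only [cmb_apply, Int.cast_sub, Int.cast_mul, h2, Int.cast_ite, sub_mul, ite_mul,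
      sum_sub_distrib, Int.cast_zero, zero_mul, sum_ite_eq', mem_univ, if_true, mul_sum,
      trivChar_apply, mul_one, Int.cast_natCast, Int.cast_ofNat, mul_sub, mul_assoc, Nat.cast_ite,
      Nat.cast_zero]
  · rw [cmb_norm, ← add_sum_erase _ _ (mem_univ (trivChar G)), mul_sub, mul_sum]
    congr 2
    rw [sum_congr rfl (g := fun χ => 4 * (t * (rr M χ : ZMod p)).valMinAbs ^ 2) fun χ hχ => by
      rw [uu, if_neg (ne_of_mem_erase hχ), if_neg (ne_of_mem_erase hχ)]; ring]
    rw [uu, if_pos rfl, if_pos rfl, phi]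
    ring

theorem card_of_count (P : Sylow p G) {k : ℕ} (hk : k = 2 ∨ k = 3)
    (h : Nat.card {χ : IrrCharacter G // χ ∈ principalBlock M G ∧
      ¬ p ∣ charDegree (χ : G → ℂ)} = k) : Nat.card P = k := by
  classical
  have := Fintype.ofFinite G
  have hG : p ∣ Nat.card G := by
    by_contra hG
    have h1 : blockIdem {trivChar G} ∈ OG M G := fun g => by
      rw [coeff_blockIdem, blockCoeff_eq, fs_singleton, sum_singleton]
      simpa using inv_natCast_mem hG
    have h2 : Subsingleton {χ : IrrCharacter G // χ ∈ principalBlock M G ∧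
        ¬ p ∣ charDegree (χ : G → ℂ)} := ⟨fun x y => Subtype.ext
      ((mem_of_blockIdem_mem_OG h1 rfl (mem_principal.1 x.2.1)).trans
        (mem_of_blockIdem_mem_OG h1 rfl (mem_principal.1 y.2.1)).symm)⟩
    have := Finite.card_le_one_iff_subsingleton.2 h2
    omega
  have hA : ∀ χ : IrrCharacter G, (rr M χ : ZMod p) ≠ 0 ↔
      χ ∈ principalBlock M G ∧ ¬ p ∣ charDegree (χ : G → ℂ) := fun χ => by
    rw [rr]
    split_ifs with hχ
    · simp [hχ, ZMod.natCast_eq_zero_iff]
    · simp [hχ]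
  rw [Nat.subtype_card (univ.filter fun χ : IrrCharacter G => (rr M χ : ZMod p) ≠ 0)
    (fun χ => by simp only [mem_filter, mem_univ, true_and, hA])] at h
  have hk1 : (((univ : Finset (IrrCharacter G)).erase (trivChar G)).filter
      fun χ => (rr M χ : ZMod p) ≠ 0).card + 1 = k := by
    rw [filter_erase, card_erase_add_one (by simp [rr_triv (p := p)]), h]
  set D : ZMod p → ℤ := fun t => ∑ χ ∈ (univ : Finset (IrrCharacter G)).erase
      (trivChar G), (t * (rr M χ : ZMod p)).valMinAbs ^ 2 - phi t with hD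
  have hG0 : (0 : ℝ) < Nat.card G := by exact_mod_cast Nat.card_pos
  have hD0 : ∀ t, 0 ≤ D t := fun t => by
    obtain ⟨E, a, hE, -, ha, hN⟩ := key4 (M := M) (G := G) t
    have h1 := key1 hG hE _ ha univ fun _ _ _ _ => mem_univ _
    rw [hN, card_univ, ← Nat.card_eq_fintype_card, mul_comm, mul_le_mul_iff_right₀ hG0] at h1
    have h2 : (p : ℤ) ^ 2 ≤ p ^ 2 + 4 * D t := by exact_mod_cast h1
    omega
  have hs : ∑ t, D t = (k - 1) * ∑ t : ZMod p, t.valMinAbs ^ 2 - ∑ t : ZMod p, phi t := by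
    rw [sum_sub_distrib, sum_comm, ← hk1, card_eq_sum_ones, sum_filter]
    push_cast
    rw [add_sub_cancel_right, sum_mul]
    congr 1
    refine sum_congr rfl fun χ _ => ?_
    split_ifs with h0
    · rw [sum_vma_mul h0, one_mul]
    · simp [not_not.1 h0]
  have hW := sum_vma_pos (p := p)
  have hs0 : 0 ≤ ∑ t, D t := sum_nonneg fun t _ => hD0 t
  have key : ∑ t, D t = 0 ∧ (p ≤ 3 → k = p) := by
    by_cases h2 : p = 2
    · rw [sum_phi_two h2] at hs
      subst h2
      have e1 : ((2 : ℕ) : ℤ) ^ 1 ∣ ∑ χ : IrrCharacter G, rr M χ ^ 2 :=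
        pow_dvd_of_div_mem (M := M) (by
          convert cmb_rr_div (M := M) hG 1 using 2
          · rw [cmb_apply]
            push_cast
            refine sum_congr rfl fun χ _ => ?_
            rw [rr]
            split_ifs
            · rw [Int.cast_natCast, irr_charDegree, sq]
            · simp
          · simp)
      rw [pow_one, ← ZMod.intCast_zmod_eq_zero_iff_dvd] at e1
      push_cast at e1
      simp only [sq_two, sum_boole] at e1
      have e3 : (k : ZMod 2) = 0 := by rw [← h]; convert e1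
      rw [ZMod.natCast_eq_zero_iff] at e3
      obtain rfl | rfl := hk
      · exact ⟨by rw [hs]; ring, fun _ => rfl⟩
      · exact absurd e3 (by norm_num)
    · rw [sum_phi h2] at hs
      obtain rfl | rfl := hk
      · omega
      · have := hp.out.two_le
        exact ⟨by rw [hs]; ring, fun _ => by omega⟩
  obtain ⟨t, ht⟩ := key3 (M := M) hG P
  obtain ⟨E, a, hE, hag, ha, hN⟩ := key4 (M := M) (G := G) t
  have h0 : D t = 0 := (sum_eq_zero_iff_of_nonneg fun t _ => hD0 t).1 key.1 t (mem_univ _)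
  have : Nontrivial P := P.isPGroup'.nontrivial_iff_card.2 ⟨_, hp.out.factorization_pos_of_dvd
    Nat.card_pos.ne' hG, P.card_eq_multiplicity⟩
  obtain ⟨h3, hP⟩ := card_eq_of_le P.isPGroup' (ht E hE a hag ha (by
    rw [hN, show ∑ χ ∈ (univ : Finset (IrrCharacter G)).erase
      (trivChar G), (t * (rr M χ : ZMod p)).valMinAbs ^ 2 - phi t = D t from rfl, h0]
    simp [mul_comm]))
  rw [key.2 h3]
  exact hP

theorem count_of_card (P : Sylow p G) {k : ℕ} (hk : k = 2 ∨ k = 3) (h : Nat.card P = k) :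
    Nat.card {χ : IrrCharacter G // χ ∈ principalBlock M G ∧
      ¬ p ∣ charDegree (χ : G → ℂ)} = k := by
  have hkp : k = p := by
    obtain ⟨n, hn⟩ := P.isPGroup'.exists_card_eq
    have h1 : k = p ^ n := h.symm.trans hn
    have h2 : k.Prime := by rcases hk with rfl | rfl <;> norm_num
    rw [h1] at h2 ⊢
    rw [h2.eq_one_of_pow, pow_one]
  subst hkp
  obtain ⟨t, ht, hc, hd⟩ := principal_of_card_eq (M := M) h (freeAb_of_card P h)
  generalize Nat.card (autE (P : Subgroup G)) = e at ht hc hd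
  have he : ¬ k ∣ e := fun h => by
    have := (Nat.dvd_add_right (h.mul_left t)).1 (show k ∣ t * e + 1 by rw [ht])
    exact hp.out.ne_one (Nat.dvd_one.1 this)
  have h1 : ¬ (k : ℤ) ∣ 1 := by exact_mod_cast hp.out.not_dvd_one
  have h2 : ¬ (k : ℤ) ∣ e := by exact_mod_cast he
  have h3 : ∀ χ ∈ principalBlock M G, ¬ k ∣ charDegree (χ : G → ℂ) := fun χ hχ h => by
    have h' : (k : ℤ) ∣ charDegree (χ : G → ℂ) := by exact_mod_cast h
    rcases hd χ hχ with h4 | h4 | h4 | h4
    · exact h1 ((h4.dvd_iff).1 h')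
    · exact h1 (dvd_neg.1 ((h4.dvd_iff).1 h'))
    · exact h2 ((h4.dvd_iff).1 h')
    · exact h2 (dvd_neg.1 ((h4.dvd_iff).1 h'))
  rw [Nat.card_congr (Equiv.subtypeEquivRight (q := fun χ => χ ∈ principalBlock M G)
    fun χ => ⟨fun h => h.1, fun h => ⟨h, h3 χ h⟩⟩)]
  refine hc.trans ?_
  rcases hk with rfl | rfl
  · have : t * e = 1 := by omega
    rw [Nat.eq_one_of_mul_eq_one_left this, Nat.eq_one_of_mul_eq_one_right this]
  · have h5 : t * e = 2 := by omega
    have h6 : t ≤ 2 := Nat.le_of_dvd two_pos ⟨e, h5.symm⟩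
    interval_cases t <;> omega

end Burn

end Cfsg.Agent.K0
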