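import Cfsg.Agent.Lib.H3.Galois
import Cfsg.Agent.Lib.H3.Equiv
import Cfsg.Agent.Lib.H3.Central
import Mathlib.LinearAlgebra.Matrix.Kronecker
import Mathlib.LinearAlgebra.Matrix.Block

/-!
# The determinant of the matrix of all irreducible matrix coefficients
-/

set_option autoImplicit false
set_option linter.unusedSectionVars false

open Cfsg Cfsg.Agent.H3 Finset Matrix
open scoped Kronecker

namespace Cfsg.Agent.K0D

theorem det_blkDiag' {α : Type*} [Fintype α] [DecidableEq α] {m : α → Type*}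
    [∀ a, Fintype (m a)] [∀ a, DecidableEq (m a)] (d : ∀ a, Matrix (m a) (m a) ℂ) :
    (blockDiagonal' d).det = ∏ a, (d a).det := by
  classical
  letI : LinearOrder α := LinearOrder.lift' (Fintype.equivFin α) (Fintype.equivFin α).injective
  have h := (blockTriangular_blockDiagonal' d).det_fintype
  convert h using 2 with a
  rw [← det_submatrix_equiv_self (Equiv.sigmaSubtype (β := m) a).symm]
  congr 1
  ext i j
  exact (blockDiagonal'_apply_eq d a i j).symm

theorem sign_invol {α : Type*} [Fintype α] [DecidableEq α] {f : α → α}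
    (hf : Function.Involutive f) : ∃ r : ℕ, (univ.filter fun x => f x = x).card + 2 * r =
      Fintype.card α ∧ (((Equiv.Perm.sign hf.toPerm : ℤˣ) : ℤ) : ℂ) = (-1) ^ r := by
  have h2 : hf.toPerm ^ 2 = 1 := by ext x; simp [sq, hf x]
  obtain ⟨r, hr⟩ := Equiv.Perm.two_dvd_card_support h2
  have h3 : (univ.filter fun x => f x = x) = hf.toPerm.supportᶜ := by ext x; simp
  have h4 : Fintype.card (Function.fixedPoints hf.toPerm) = (univ.filter fun x => f x = x).card := by
    rw [Fintype.card_subtype]; rfl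
  have h5 : (univ.filter fun x => f x = x).card + 2 * r = Fintype.card α := by
    rw [h3, ← hr, card_compl_add_card]
  refine ⟨r, h5, ?_⟩
  rw [Equiv.Perm.sign_of_pow_two_eq_one h2, h4, ← h5]
  simp

variable {G : Type*} [Group G] [Finite G]

/-- the degree -/
noncomputable abbrev dg (χ : IrrCharacter G) : ℕ := charDegree (χ : G → ℂ)

/-- families of matrix representations affording the irreducible characters -/
def IsFam (R : ∀ χ : IrrCharacter G, G →* Matrix (Fin (dg χ)) (Fin (dg χ)) ℂ) : Prop :=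
  ∀ χ g, (R χ g).trace = (χ : G → ℂ) g

theorem exists_fam : ∃ R : ∀ χ : IrrCharacter G, G →* Matrix (Fin (dg χ)) (Fin (dg χ)) ℂ,
    IsFam R := by
  have : ∀ χ : IrrCharacter G, ∃ R : G →* Matrix (Fin (dg χ)) (Fin (dg χ)) ℂ,
      ∀ g, (R g).trace = (χ : G → ℂ) g := fun χ => by
    obtain ⟨n, f, hf⟩ := isCharacter_iff_matrix.1 (IsIrrCharacter_isCharacter χ.2)
    have hn : dg χ = n := charDegree_eq (by rw [hf]; simp)
    subst hn
    exact ⟨f, fun g => (congrFun hf g).symm⟩
  choose R hR using this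
  exact ⟨R, hR⟩

theorem exists_conj {n : Type*} [Fintype n] [DecidableEq n] (R R' : G →* Matrix n n ℂ)
    (h : ∀ g, (R g).trace = (R' g).trace) :
    ∃ U V : Matrix n n ℂ, U * V = 1 ∧ ∀ g, R' g = U * R g * V := by
  obtain ⟨φ⟩ := equiv_of_character_eq (repOfMatrix R) (repOfMatrix R') (funext fun g => by
    rw [repOfMatrix_character, repOfMatrix_character, h])
  let e : (n → ℂ) ≃ₗ[ℂ] (n → ℂ) := φ.toLinearEquiv
  have he : ∀ g v, e (R g *ᵥ v) = R' g *ᵥ e v := fun g v => equiv_apply_apply φ g v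
  refine ⟨LinearMap.toMatrix' e.toLinearMap, LinearMap.toMatrix' e.symm.toLinearMap, ?_, fun g => ?_⟩
  · rw [← LinearMap.toMatrix'_comp]; simp
  · apply Matrix.toLin'.injective
    rw [toLin'_mul, toLin'_mul, toLin'_toMatrix', toLin'_toMatrix']
    refine LinearMap.ext fun v => ?_
    simp [he]

/-- index set of the matrix coefficients -/
abbrev II (G : Type*) [Group G] := Σ χ : IrrCharacter G, Fin (dg χ) × Fin (dg χ)

theorem II_ext {i j : II G} (h : i.1 = j.1) (h1 : (i.2.1 : ℕ) = j.2.1) (h2 : (i.2.2 : ℕ) = j.2.2) :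
    i = j := by
  obtain ⟨χ, a, b⟩ := i
  obtain ⟨ψ, c, d⟩ := j
  dsimp only at h h1 h2
  subst h
  rw [Fin.ext h1, Fin.ext h2]

theorem sum_dg_sq : ∑ χ : IrrCharacter G, dg χ ^ 2 = Nat.card G := by
  have := sum_degree_sq (G := G)
  simp only [← irr_charDegree] at this
  exact_mod_cast this

theorem card_II : Fintype.card (II G) = Nat.card G := by
  rw [Fintype.card_sigma, ← sum_dg_sq]
  simp [sq]

/-- the big matrix -/
noncomputable def Psi (e : II G → G) (R : ∀ χ : IrrCharacter G, G →* Matrix (Fin (dg χ)) (Fin (dg χ)) ℂ) :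
    Matrix (II G) (II G) ℂ := Matrix.of fun i j => R j.1 (e i) j.2.1 j.2.2

variable [DecidableEq (IrrCharacter G)]

theorem det_Psi_eq (e : II G → G)
    {R R' : ∀ χ : IrrCharacter G, G →* Matrix (Fin (dg χ)) (Fin (dg χ)) ℂ}
    (hR : IsFam R) (hR' : IsFam R') : (Psi e R').det = (Psi e R).det := by
  choose U V hUV h using fun χ => exists_conj (R χ) (R' χ) fun g => by rw [hR, hR']
  have h1 : Psi e R' = Psi e R * blockDiagonal' fun χ => (U χ)ᵀ ⊗ₖ V χ := by
    ext i ⟨χ, a, b⟩
    rw [mul_apply, Fintype.sum_sigma, sum_eq_single χ]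
    · simp only [Psi, of_apply, blockDiagonal'_apply_eq, h, mul_apply, Fintype.sum_prod_type,
        kroneckerMap_apply, transpose_apply, sum_mul]
      rw [sum_comm]
      exact sum_congr rfl fun _ _ => sum_congr rfl fun _ _ => by ring
    · intro ψ _ hψ
      exact sum_eq_zero fun x _ => by rw [blockDiagonal'_apply_ne _ _ _ hψ, mul_zero]
    · simp
  rw [h1, det_mul, det_blkDiag', prod_eq_one, mul_one]
  intro χ _
  rw [det_kronecker, det_transpose, ← mul_pow, ← det_mul, hUV, det_one, one_pow]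

/-- transposition of the matrix positions -/
def sw (i : II G) : II G := ⟨i.1, i.2.2, i.2.1⟩

theorem sw_invol : Function.Involutive (sw (G := G)) := fun _ => rfl

theorem card_fix_sw : (univ.filter fun x : II G => sw x = x).card = ∑ χ : IrrCharacter G, dg χ := by
  rw [card_filter, Fintype.sum_sigma]
  refine sum_congr rfl fun χ _ => ?_
  have : ∀ x : Fin (dg χ) × Fin (dg χ), (sw (⟨χ, x⟩ : II G) = ⟨χ, x⟩) ↔ x.1 = x.2 := by
    rintro ⟨a, b⟩
    simp [sw, eq_comm]
  simp only [this, Fintype.sum_prod_type]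
  simp

theorem det_Psi_sq [DecidableEq G] (e : II G ≃ G)
    {R : ∀ χ : IrrCharacter G, G →* Matrix (Fin (dg χ)) (Fin (dg χ)) ℂ} (hR : IsFam R) :
    ∃ r s : ℕ, (∑ χ : IrrCharacter G, dg χ) + 2 * r = Nat.card G ∧
      Nat.card {x : G // x * x = 1} + 2 * s = Nat.card G ∧
      (Psi e R).det ^ 2 * (∏ χ : IrrCharacter G, (dg χ : ℂ) ^ (dg χ ^ 2)) =
        (Nat.card G : ℂ) ^ Nat.card G * (-1) ^ (r + s) := by
  have hinv : Function.Involutive fun i : II G => e.symm (e i)⁻¹ := fun i => by simp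
  obtain ⟨r, hr, hr'⟩ := sign_invol (sw_invol (G := G))
  obtain ⟨s, hs, hs'⟩ := sign_invol hinv
  rw [card_II] at hr hs
  rw [card_fix_sw] at hr
  refine ⟨r, s, hr, ?_, ?_⟩
  · rw [← hs, ← Fintype.card_subtype, ← Nat.card_eq_fintype_card]
    congr 1
    refine Nat.card_congr (e.symm.subtypeEquiv fun x => ?_)
    simp [Equiv.symm_apply_eq, inv_eq_iff_mul_eq_one]
  have h1 : Psi e R * diagonal (fun j : II G => (dg j.1 : ℂ)) *
      ((Psi e R).submatrix id (sw_invol (G := G)).toPerm)ᵀ =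
      (Nat.card G : ℂ) • (1 : Matrix (II G) (II G) ℂ).submatrix hinv.toPerm id := by
    ext i i'
    have h2 := sum_degree_mul_irr (G := G) (e i * e i')
    rw [mul_apply, Fintype.sum_sigma]
    simp only [mul_diagonal, transpose_apply, submatrix_apply, Psi, of_apply, id,
      Function.Involutive.coe_toPerm, sw, Matrix.smul_apply, one_apply, smul_eq_mul, mul_ite, mul_one,
      mul_zero, Equiv.symm_apply_eq, inv_eq_iff_mul_eq_one]
    convert h2 using 2 with χ
    rw [← hR χ (e i * e i'), map_mul, ← irr_charDegree, trace, mul_sum, Fintype.sum_prod_type]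
    refine sum_congr rfl fun a _ => ?_
    rw [diag_apply, mul_apply, mul_sum]
    exact sum_congr rfl fun b _ => by ring
  have h3 := congrArg det h1
  rw [det_mul, det_mul, det_transpose, det_permute', det_smul, det_permute, det_one, det_diagonal,
    hr', hs', card_II, Fintype.prod_sigma] at h3
  simp only [prod_const, card_univ, Fintype.card_prod, Fintype.card_fin, ← sq] at h3
  have h4 : ((-1 : ℂ) ^ r) ^ 2 = 1 := by rw [← pow_mul, mul_comm, pow_mul]; simp
  rw [pow_add]
  linear_combination (-1) ^ r * h3 - (Psi e R).det ^ 2 *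
    (∏ χ : IrrCharacter G, (dg χ : ℂ) ^ (dg χ ^ 2)) * h4

theorem dg_gal (σ : ℂ ≃+* ℂ) (χ : IrrCharacter G) : dg (galIrr σ χ) = dg χ :=
  charDegree_eq (by rw [galIrr_apply, ← irr_charDegree, map_natCast])

theorem det_Psi_map (e : II G → G)
    {R : ∀ χ : IrrCharacter G, G →* Matrix (Fin (dg χ)) (Fin (dg χ)) ℂ} (hR : IsFam R)
    (σ : ℂ ≃+* ℂ) (hσ : ∀ χ : IrrCharacter G, galIrr σ (galIrr σ χ) = χ) :
    ∃ u : ℕ, (∑ χ : IrrCharacter G, if galIrr σ χ = χ then dg χ ^ 2 else 0) + 2 * u = Nat.card G ∧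
      σ (Psi e R).det = (-1) ^ u * (Psi e R).det := by
  let τ : II G → II G := fun j =>
    ⟨galIrr σ j.1, Fin.cast (dg_gal σ j.1).symm j.2.1, Fin.cast (dg_gal σ j.1).symm j.2.2⟩
  have hτ : Function.Involutive τ := fun j => II_ext (hσ _) rfl rfl
  obtain ⟨u, hu, hu'⟩ := sign_invol hτ
  let R' : ∀ χ : IrrCharacter G, G →* Matrix (Fin (dg χ)) (Fin (dg χ)) ℂ := fun χ =>
    ((reindexAlgEquiv ℂ ℂ (finCongr (dg_gal σ χ))).toMonoidHom.comp
      (σ.toRingHom.mapMatrix : Matrix _ _ ℂ →+* Matrix _ _ ℂ).toMonoidHom).comp (R (galIrr σ χ))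
  have hR'a : ∀ χ g a b, R' χ g a b = σ (R (galIrr σ χ) g (Fin.cast (dg_gal σ χ).symm a)
      (Fin.cast (dg_gal σ χ).symm b)) := fun χ g a b => rfl
  have hR' : IsFam R' := fun χ g => by
    conv_rhs => rw [← hσ χ, galIrr_apply, ← hR]
    simp only [trace, diag_apply, hR'a, map_sum]
    exact Fintype.sum_equiv (finCongr (dg_gal σ χ).symm) _ _ fun a => rfl
  have h1 : Psi e R' = σ.toRingHom.mapMatrix ((Psi e R).submatrix id hτ.toPerm) := by
    ext i j; rfl
  have h2 := det_Psi_eq e hR hR'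
  rw [h1, ← RingHom.map_det, det_permute', map_mul, map_intCast, hu'] at h2
  refine ⟨u, ?_, ?_⟩
  · rw [← card_II, ← hu, card_filter, Fintype.sum_sigma]
    congr 1
    refine sum_congr rfl fun χ _ => ?_
    have : ∀ x : Fin (dg χ) × Fin (dg χ), (τ (⟨χ, x⟩ : II G) = ⟨χ, x⟩) ↔ galIrr σ χ = χ :=
      fun x => ⟨fun h => congrArg Sigma.fst h, fun h => II_ext h rfl rfl⟩
    simp only [this]
    split_ifs <;> simp [sq]
  · have h4 : ((-1 : ℂ) ^ u) ^ 2 = 1 := by rw [← pow_mul, mul_comm, pow_mul]; simp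
    change _ * σ _ = _ at h2
    linear_combination (-1) ^ u * h2 - σ (Psi e R).det * h4

end Cfsg.Agent.K0D
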