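import Cfsg.Agent.Lib.K0.Bas

/-!
# The general form of the norm argument
-/

set_option autoImplicit false
set_option linter.unusedSectionVars false

open Cfsg Cfsg.Agent.H3 Cfsg.Agent.H5 Subgroup Finset
open scoped ComplexConjugate

namespace Cfsg.Agent.K0

variable {p : ℕ} [hp : Fact p.Prime] {M : Ideal AlgInt} [PMod p M] {G : Type*} [Group G] [Finite G]

theorem dvd_sum_rr_sq (hG : p ∣ Nat.card G) : (p : ℤ) ∣ ∑ χ : IrrCharacter G, rr M χ ^ 2 := by
  rw [← pow_one (p : ℤ)]
  refine pow_dvd_of_div_mem (M := M) ?_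
  convert cmb_rr_div (M := M) hG 1 using 2
  · rw [cmb_apply]
    push_cast
    refine sum_congr rfl fun χ _ => ?_
    rw [rr]
    split_ifs
    · rw [Int.cast_natCast, irr_charDegree, sq]
    · simp
  · simp

theorem dvd_rr_iff (χ : IrrCharacter G) : ¬ (p : ℤ) ∣ rr M χ ↔
    χ ∈ principalBlock M G ∧ ¬ p ∣ charDegree (χ : G → ℂ) := by
  rw [rr]
  split_ifs with hχ
  · simp [hχ, Int.natCast_dvd_natCast]
  · simp [hχ]

theorem dvd_card_of_count {k : ℕ} (hk : 2 ≤ k)
    (h : Nat.card {χ : IrrCharacter G // χ ∈ principalBlock M G ∧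
      ¬ p ∣ charDegree (χ : G → ℂ)} = k) : p ∣ Nat.card G := by
  by_contra hG
  have h1 : blockIdem {trivChar G} ∈ OG M G := fun g => by
    rw [coeff_blockIdem, blockCoeff_eq, fs_singleton, sum_singleton]
    simpa using inv_natCast_mem hG
  have h2 : Subsingleton {χ : IrrCharacter G // χ ∈ principalBlock M G ∧
      ¬ p ∣ charDegree (χ : G → ℂ)} := ⟨fun x y => Subtype.ext
    ((mem_of_blockIdem_mem_OG h1 rfl (mem_principal.1 x.2.1)).trans
      (mem_of_blockIdem_mem_OG h1 rfl (mem_principal.1 y.2.1)).symm)⟩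
  have := Finite.card_le_one_iff_subsingleton.2 h2
  omega

theorem card_eq_of_index {P : Type*} [Group P] [Finite P] (hP : IsPGroup p P)
    (h5 : (_root_.commutator P).index = p) : Nat.card P = p := by
  have h1 := H1.commutator_le_frattini hP
  have : Nontrivial P := by
    by_contra h
    rw [not_nontrivial_iff_subsingleton] at h
    rw [Subsingleton.elim (_root_.commutator P) ⊤, index_top] at h5
    exact hp.out.ne_one h5.symm
  have h6 : frattini P = _root_.commutator P :=
    ((H1.isCoatom_of_index_prime hp.out h5).le_iff.1 h1).resolve_left H1.frattini_ne_top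
  have h7 : IsCyclic P := H1.isCyclic_of_isCyclic_frattini_quotient
    (isCyclic_of_prime_card (p := p) (by rw [← index_eq_card, h6, h5]))
  rw [← h5, (commutator_eq_bot_iff_center_eq_top P).2, index_bot]
  let := h7.commGroup
  exact CommGroup.center_eq_top

/-- The lower bound for the norm. -/
theorem sq_le_norm [DecidableEq (IrrCharacter G)] (hG : p ∣ Nat.card G) (t : ℤ) (u : IrrCharacter G → ℤ)
    (hu : ∀ χ, (p : ℤ) ∣ t * rr M χ - u χ) :
    (p : ℤ) ^ 2 ≤ ∑ χ, (2 * u χ - if χ = trivChar G then p else 0) ^ 2 := by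
  have := Fintype.ofFinite G
  choose e he using hu
  have ha : ∀ g, cmb (fun χ => 2 * u χ - if χ = trivChar G then p else 0) g =
      2 * (t * cmb (rr M) g - p * cmb e g) - p := fun g => by
    have h2 : ∀ χ, (u χ : ℂ) = t * rr M χ - p * e χ := fun χ => by
      have := congrArg (Int.cast : ℤ → ℂ) (he χ)
      push_cast at this ⊢
      linear_combination -this
    simp only [cmb_apply, Int.cast_sub, Int.cast_mul, h2, Int.cast_ite, sub_mul, ite_mul,
      sum_sub_distrib, Int.cast_zero, zero_mul, sum_ite_eq', mem_univ, if_true, mul_sum,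
      trivChar_apply, mul_one, Int.cast_natCast, Int.cast_ofNat, mul_sub, mul_assoc, Nat.cast_ite,
      Nat.cast_zero]
  have hG0 : (0 : ℝ) < Nat.card G := by exact_mod_cast Nat.card_pos
  have h1 := key1 hG (cmb_gen e) t ha univ fun _ _ _ _ => mem_univ _
  rw [cmb_norm, card_univ, ← Nat.card_eq_fintype_card, mul_comm, mul_le_mul_iff_right₀ hG0] at h1
  exact_mod_cast h1

/-- Equality in the lower bound forces a Sylow subgroup of order `p`. -/
theorem card_eq_of_norm [DecidableEq (IrrCharacter G)] (hG : p ∣ Nat.card G) (P : Sylow p G)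
    (t : ℤ) (ht : ¬ (p : ℤ) ∣ t)
    (u : IrrCharacter G → ℤ) (hu : ∀ χ, (p : ℤ) ∣ t * rr M χ - u χ)
    (hN : ∑ χ, (2 * u χ - if χ = trivChar G then p else 0) ^ 2 ≤ (p : ℤ) ^ 2) :
    Nat.card P = p := by
  have := Fintype.ofFinite G
  choose e he using hu
  have ha : ∀ g, cmb (fun χ => 2 * u χ - if χ = trivChar G then p else 0) g =
      2 * (t * cmb (rr M) g - p * cmb e g) - p := fun g => by
    have h2 : ∀ χ, (u χ : ℂ) = t * rr M χ - p * e χ := fun χ => by
      have := congrArg (Int.cast : ℤ → ℂ) (he χ)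
      push_cast at this ⊢
      linear_combination -this
    simp only [cmb_apply, Int.cast_sub, Int.cast_mul, h2, Int.cast_ite, sub_mul, ite_mul,
      sum_sub_distrib, Int.cast_zero, zero_mul, sum_ite_eq', mem_univ, if_true, mul_sum,
      trivChar_apply, mul_one, Int.cast_natCast, Int.cast_ofNat, mul_sub, mul_assoc, Nat.cast_ite,
      Nat.cast_zero]
  have hE := cmb_gen e
  have hag := cmb_gen (fun χ => 2 * u χ - if χ = trivChar G then p else 0)
  have hN' : ∑ g, ‖cmb (fun χ => 2 * u χ - if χ = trivChar G then p else 0) g‖ ^ 2 ≤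
      (p : ℝ) ^ 2 * Nat.card G := by
    rw [cmb_norm, mul_comm]
    exact mul_le_mul_of_nonneg_right (by exact_mod_cast hN) (Nat.cast_nonneg _)
  generalize cmb (fun χ => 2 * u χ - if χ = trivChar G then p else 0) = a at ha hag hN'
  generalize cmb e = E at ha hE
  classical
  obtain ⟨L, j, c, hj, hc, hl⟩ := exists_c (M := M) P
  have htc : ¬ (p : ℤ) ∣ t * c := fun h =>
    ((Nat.prime_iff_prime_int.1 hp.out).dvd_or_dvd h).elim ht hc
  have h1 := key2 hG hE t ha hN' j hj
  obtain ⟨w, hw⟩ := IsGeneralized_exists_int_sum (IsGeneralized_comp j hag)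
  have hw' : ∀ h, a (j h) = cmb w h := fun h => congrFun hw h
  simp only [hw', cmb_norm] at h1
  have hH : (0 : ℝ) < Nat.card (P × L) := by exact_mod_cast Nat.card_pos
  rw [mul_comm, mul_le_mul_iff_left₀ hH] at h1
  have h2 : ∑ χ, w χ ^ 2 ≤ (p : ℤ) ^ 2 := by exact_mod_cast h1
  let μ : (P →* ℂˣ) → IrrCharacter (P × L) := fun l =>
    ⟨_, isIrrCharacter_linear (l.comp (MonoidHom.fst P L))⟩
  have hμ : Function.Injective μ := fun l l' h => by
    ext x
    exact congrFun (congrArg Subtype.val h) (x, 1)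
  have h3 : ∀ l : P →* ℂˣ, l ≠ 1 → 4 ≤ w (μ l) ^ 2 := fun l hl1 => by
    obtain ⟨e, he⟩ := IsGeneralized_classInner (IsGeneralized_comp j hE)
      (IsIrrCharacter_isGeneralized (μ l).2)
    have e1 := classInner_sum_irr (fun χ => (w χ : ℂ)) (μ l)
    have e2 : (fun h => a (j h)) = (2 * t : ℂ) • (fun h => cmb (rr M) (j h)) -
        (2 * p : ℂ) • (fun h => E (j h)) - (p : ℂ) • (μ 1 : P × L → ℂ) := by
      funext h
      simp [ha, μ]
      ring
    rw [← hw, e2, classInner_sub_left, classInner_sub_left, classInner_smul_left,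
      classInner_smul_left, classInner_smul_left, he, classInner_irr,
      if_neg (fun h => hl1 (hμ h).symm)] at e1
    have e3 : classInner (fun h => cmb (rr M) (j h)) (μ l : P × L → ℂ) = c := hl l
    rw [e3] at e1
    have e4 : w (μ l) = 2 * (t * c - p * e) := by
      apply Int.cast_injective (α := ℂ)
      push_cast
      rw [← e1]; ring
    have e5 : t * c - p * e ≠ 0 := fun h => htc ⟨e, by linear_combination h⟩
    rw [e4]
    nlinarith [one_le_sq_of_ne e5]
  have := Fintype.ofFinite (P →* ℂˣ)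
  have h4 : ∑ l ∈ univ.erase (1 : P →* ℂˣ), w (μ l) ^ 2 ≤ ∑ χ, w χ ^ 2 := by
    rw [← sum_image (f := fun χ => w χ ^ 2) fun _ _ _ _ h => hμ h]
    exact sum_le_sum_of_subset_of_nonneg (subset_univ _) fun _ _ _ => sq_nonneg _
  have h5 := card_nsmul_le_sum _ _ _ fun l (hl : l ∈ univ.erase (1 : P →* ℂˣ)) =>
    h3 l (ne_of_mem_erase hl)
  rw [card_erase_of_mem (mem_univ _), card_univ, ← Nat.card_eq_fintype_card,
    card_monoidHom_units, nsmul_eq_mul, mul_comm] at h5
  have h6 : 4 * ((_root_.commutator P).index - 1) ≤ p ^ 2 := by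
    exact_mod_cast h5.trans (h4.trans h2)
  have : Nontrivial P := P.isPGroup'.nontrivial_iff_card.2 ⟨_, hp.out.factorization_pos_of_dvd
    Nat.card_pos.ne' hG, P.card_eq_multiplicity⟩
  have h7 := H1.commutator_le_frattini P.isPGroup'
  have h8 : _root_.commutator P ≠ ⊤ := fun h => H1.frattini_ne_top (top_le_iff.1 (h ▸ h7))
  obtain ⟨k, hk⟩ := P.isPGroup'.index (_root_.commutator P)
  refine card_eq_of_index P.isPGroup' ?_
  have hp2 := hp.out.two_le
  rw [hk] at h6 ⊢
  match k with
  | 0 => exact absurd (index_eq_one.1 (by simpa using hk)) h8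
  | 1 => exact pow_one p
  | k + 2 =>
    have e1 : p ^ 2 ≤ p ^ (k + 2) := Nat.pow_le_pow_right hp.out.pos (by omega)
    have e2 : 4 ≤ p ^ 2 := by nlinarith
    omega

end Cfsg.Agent.K0
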