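import Cfsg.Agent.Lib.K0.Sg
import Cfsg.Agent.Lib.K0.Gen
import Cfsg.Agent.Lib.H3.Section

/-!
# Characters of odd degree outside the principal `2`-block
-/

set_option autoImplicit false
set_option linter.unusedSectionVars false

open Cfsg Cfsg.Agent.H3 Cfsg.Agent.H5 Cfsg.Agent.K0 Finset Subgroup
open scoped ComplexConjugate

namespace Cfsg.Agent.K0D

variable {M : Ideal AlgInt} [PMod 2 M] {G : Type*} [Group G] [Finite G]

theorem two_eq_zero : (2 : resField M) = 0 := by exact_mod_cast resField_p_eq_zero (p := 2) M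

theorem res_odd {n : ℕ} (h : ¬ 2 ∣ n) : (n : resField M) = 1 := by
  obtain ⟨c, rfl⟩ : ∃ c, n = 2 * c + 1 := ⟨n / 2, by omega⟩
  push_cast
  rw [two_eq_zero, zero_mul, zero_add]

theorem res_deg {χ : IrrCharacter G} (h : ¬ 2 ∣ dg χ) : res M ((χ : G → ℂ) 1) = 1 := by
  rw [← irr_charDegree, res_natCast, res_odd h]

theorem lam_odd {χ : IrrCharacter G} (h : ¬ 2 ∣ dg χ) (g : G) :
    lam M χ (classSum ℂ g) = ((centralizer ({g} : Set G)).index : resField M) *
      res M ((χ : G → ℂ) g) := by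
  rw [lam_classSum, centralChar, res_div' (mul_mem (natCast_mem _ _) (irr_mem _ _))
    (by rw [res_deg h]; exact one_ne_zero), res_deg h, div_one,
    res_mul (natCast_mem _ _) (irr_mem _ _), res_natCast]

theorem sameBlock_of_res {χ ψ : IrrCharacter G} (h : ¬ 2 ∣ dg χ) (h' : ¬ 2 ∣ dg ψ)
    (e : ∀ g, res M ((χ : G → ℂ) g) = res M ((ψ : G → ℂ) g)) : SameBlock M (χ : G → ℂ) ψ :=
  sameBlock_iff_classSum.2 fun g => by rw [lam_odd h, lam_odd h', e]

theorem Sg.res_gal {σ : ℂ ≃+* ℂ} {k : ℕ} (h : Sg G σ k) (χ : IrrCharacter G) (g : G) :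
    res M ((galIrr σ χ : G → ℂ) g) = res M ((χ : G → ℂ) g) := by
  have hχ := IsIrrCharacter_isCharacter χ.2
  have hc := commute_pPart_pPart' (p := 2) g
  rw [h.gal, ← res_char_pPart' (p := 2) hχ g]
  conv_lhs => rw [← pPart_mul_pPart' (p := 2) g, hc.mul_pow,
    h.odd _ (Nat.odd_iff.2 (Nat.two_dvd_ne_zero.1 (pPart'_pReg g)))]
  exact res_char_pElt_mul hχ (hc.pow_left k) (by simpa using pElt_zpow (pPart_pElt g) k)

theorem dg_gal' (σ : ℂ ≃+* ℂ) (χ : IrrCharacter G) : dg (galIrr σ χ) = dg χ := by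
  classical exact dg_gal σ χ

theorem Sg.sameBlock {σ : ℂ ≃+* ℂ} {k : ℕ} (h : Sg G σ k) {χ : IrrCharacter G}
    (ho : ¬ 2 ∣ dg χ) : SameBlock M (χ : G → ℂ) (galIrr σ χ : IrrCharacter G) :=
  sameBlock_of_res ho (by rwa [dg_gal']) fun g => (h.res_gal χ g).symm

theorem dg_conj (χ : IrrCharacter G) : dg (conjIrr χ) = dg χ :=
  charDegree_eq (by rw [conjIrr_apply, irr_conj_apply_one, irr_charDegree])

theorem centralChar_conj (χ : IrrCharacter G) (g : G) :
    centralChar (conjIrr χ : G → ℂ) g = centralChar (χ : G → ℂ) g⁻¹ := by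
  have : centralizer ({g⁻¹} : Set G) = centralizer {g} := by
    ext x
    simp only [mem_centralizer_singleton_iff]
    exact ⟨fun h => by simpa using (Commute.inv_right h).eq, fun h => (Commute.inv_right h).eq⟩
  rw [centralChar, centralChar, this, conjIrr_apply, conjIrr_apply, irr_conj_apply_one,
    irr_apply_inv]

theorem sameBlock_conj {χ ψ : IrrCharacter G} (h : SameBlock M (χ : G → ℂ) ψ) :
    SameBlock M (conjIrr χ : G → ℂ) (conjIrr ψ : IrrCharacter G) := fun g => by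
  rw [centralChar_conj, centralChar_conj]; exact h _

theorem conj_triv : conjIrr (trivChar G) = trivChar G := by ext g; simp

theorem conj_mem {χ : IrrCharacter G} (h : χ ∈ principalBlock M G) :
    conjIrr χ ∈ principalBlock M G := by
  have := sameBlock_conj (mem_principal.1 h)
  rwa [conj_triv] at this

theorem mem_of_real {χ : IrrCharacter G} (ho : ¬ 2 ∣ dg χ)
    (h : SameBlock M (χ : G → ℂ) (conjIrr χ : IrrCharacter G)) : χ ∈ principalBlock M G := by
  classical
  have := Fintype.ofFinite G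
  obtain ⟨P⟩ : Nonempty (Sylow 2 G) := inferInstance
  by_contra hn
  have h1 := classInner_pRegularPart_eq_zero (p := 2) (M := M) (χ := χ) (ψ := trivChar G)
    fun e => hn (mem_principal.2 (sameBlock_symm e))
  rw [classInner, mul_eq_zero, or_iff_right (inv_ne_zero (card_ne_zero_complex G))] at h1
  simp only [trivChar_apply, map_one, mul_one, pRegularPart_eq_indicator, Set.indicator_apply,
    Set.mem_setOf_eq] at h1
  let f : G → resField M := fun g => if ¬ 2 ∣ orderOf g then res M ((χ : G → ℂ) g) else 0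
  have h2 : ∑ g, f g = 0 := by
    rw [← res_zero (M := M), ← h1, res_sum _ fun g _ => by
      split_ifs; exacts [zero_mem _, irr_mem _ _]]
    exact sum_congr rfl fun g _ => by simp only [f]; split_ifs <;> simp
  rw [sum_conj_invariant (resField_p_eq_zero M) P.isPGroup' f (fun u _ g => by
    simp only [f, orderOf_conj', irr_conj]), ← add_sum_erase _ _ (mem_univ 1),
    sum_involution (fun g _ => g⁻¹)] at h2
  · simp [f, res_deg ho] at h2
  · intro g _
    by_cases hg : g ∈ centralizer ((P : Subgroup G) : Set G)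
    · rw [if_pos hg, if_pos (inv_mem hg)]
      have h3 := sameBlock_iff_classSum.1 h g
      have h4 : ¬ 2 ∣ (centralizer ({g} : Set G)).index := fun e => P.not_dvd_index
        (e.trans (index_dvd_of_le fun x hx => mem_centralizer_singleton_iff.2
          (mem_centralizer_iff.1 hg x hx)))
      rw [lam_odd ho, lam_odd (by rwa [dg_conj]), res_odd h4, one_mul, one_mul, conjIrr_apply,
        ← irr_apply_inv] at h3
      simp only [f, orderOf_inv, ← h3]
      rw [← two_mul, two_eq_zero, zero_mul]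
    · rw [if_neg hg, if_neg fun e => hg (by simpa using inv_mem e), add_zero]
  · intro g hg h0 e
    have h5 : ¬ 2 ∣ orderOf g := fun h6 => h0 (by simp only [f, h6, not_true, if_false, ite_self])
    have h7 : orderOf g ∣ 2 := orderOf_dvd_of_pow_eq_one (by rw [sq]; nth_rw 1 [← e]; simp)
    rcases (Nat.dvd_prime Nat.prime_two).1 h7 with h8 | h8
    · exact ne_of_mem_erase hg (orderOf_eq_one_iff.1 h8)
    · exact h5 (h8 ▸ dvd_rfl)
  · intro g hg
    simpa using hg
  · simp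

theorem four_dvd {A : Set (IrrCharacter G)} (hA : blockIdem A ∈ OG M G) (hG : 4 ∣ Nat.card G) :
    4 ∣ Nat.card {χ : IrrCharacter G // χ ∈ A ∧ ¬ 2 ∣ dg χ} := by
  classical
  have h1 : ((2 : ℕ) : ℤ) ^ 2 ∣ ((∑ χ ∈ fs A, dg χ ^ 2 : ℕ) : ℤ) := by
    refine pow_dvd_of_div_mem (M := M) ?_
    obtain ⟨c, hc⟩ := hG
    have h2 := mul_mem (natCast_mem (locRing M) c) (hA 1)
    rw [coeff_blockIdem, blockCoeff_eq] at h2
    convert h2 using 1
    have h0 := card_ne_zero_complex G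
    simp only [← irr_charDegree, map_natCast, ← sq]
    rw [hc] at h0 ⊢
    push_cast at h0 ⊢
    field_simp [right_ne_zero_of_mul h0]
    norm_num
  have h3 : 4 ∣ ∑ χ ∈ fs A, dg χ ^ 2 := by exact_mod_cast h1
  have h4 : 4 ∣ ∑ χ ∈ fs A, (3 * dg χ ^ 2 + if ¬ 2 ∣ dg χ then 1 else 0) := dvd_sum fun χ _ => by
    generalize dg χ = d
    obtain ⟨c, hc⟩ : ∃ c, d = 2 * c ∨ d = 2 * c + 1 := ⟨d / 2, by omega⟩
    have e1 : (2 * c) ^ 2 = 4 * c ^ 2 := by ring
    have e2 : (2 * c + 1) ^ 2 = 4 * c ^ 2 + 4 * c + 1 := by ring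
    rcases hc with rfl | rfl <;> split_ifs <;> omega
  rw [sum_add_distrib, ← mul_sum, ← card_filter] at h4
  rw [Nat.card_eq_fintype_card, Fintype.card_subtype,
    show (univ.filter fun χ => χ ∈ A ∧ ¬ 2 ∣ dg χ) = (fs A).filter fun χ => ¬ 2 ∣ dg χ by
      ext χ; simp]
  omega

theorem exists_half : ∃ A : Set (IrrCharacter G), blockIdem A ∈ OG M G ∧
    ∀ Q : IrrCharacter G → Prop, (∀ χ, Q χ → ¬ 2 ∣ dg χ) → (∀ χ, Q χ → Q (conjIrr χ)) →
      Nat.card {χ // Q χ} = Nat.card {χ // χ ∈ principalBlock M G ∧ Q χ} +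
        2 * Nat.card {χ // χ ∈ A ∧ Q χ} := by
  classical
  obtain ⟨φ, hφ⟩ := Countable.exists_injective_nat (Set (IrrCharacter G))
  let r : IrrCharacter G → ℕ := fun χ => φ (blockOf M (χ : G → ℂ))
  have hr : ∀ χ ψ, r χ = r ψ ↔ SameBlock M (χ : G → ℂ) ψ := fun χ ψ =>
    ⟨fun h => by
      have := self_mem_blockOf (M := M) ψ
      rwa [← hφ h] at this, fun h => congrArg φ (blockOf_eq_of_sameBlock h)⟩
  refine ⟨{χ | r χ < r (conjIrr χ)}, (blockIdem_mem_ZO_of_sat fun χ hχ ψ hψ h => hψ ?_).1,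
    fun Q hQ hc => ?_⟩
  · have h1 := (hr _ _).2 h
    have h2 := (hr _ _).2 (sameBlock_conj h)
    simp only [Set.mem_setOf_eq] at hχ ⊢
    omega
  simp only [Nat.card_eq_fintype_card, Fintype.card_subtype, Set.mem_setOf_eq]
  have h3 : (univ.filter fun χ => r (conjIrr χ) < r χ ∧ Q χ).card =
      (univ.filter fun χ => r χ < r (conjIrr χ) ∧ Q χ).card :=
    card_nbij' conjIrr conjIrr (fun χ h => by
        simp only [coe_filter, mem_univ, true_and, Set.mem_setOf_eq, conjIrr_conjIrr] at h ⊢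
        exact ⟨h.1, hc _ h.2⟩)
      (fun χ h => by
        simp only [coe_filter, mem_univ, true_and, Set.mem_setOf_eq, conjIrr_conjIrr] at h ⊢
        exact ⟨h.1, hc _ h.2⟩) (fun _ _ => by simp) (fun _ _ => by simp)
  rw [two_mul]
  nth_rw 1 [← h3]
  simp only [card_filter, ← sum_add_distrib]
  refine sum_congr rfl fun χ _ => ?_
  by_cases hq : Q χ
  · have h4 : χ ∈ principalBlock M G ↔ r χ = r (conjIrr χ) :=
      ⟨fun h => (hr _ _).2 (blk_sameBlock isPBlock_principal h (conj_mem h)),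
        fun h => mem_of_real (hQ χ hq) ((hr _ _).1 h)⟩
    simp only [hq, and_true, h4, if_true]
    split_ifs <;> omega
  · simp [hq]

theorem two_dvd_card_moved {α : Type*} [Finite α] {f : α → α} (hf : Function.Involutive f)
    (Q : α → Prop) (hQ : ∀ x, Q x → Q (f x)) : 2 ∣ Nat.card {x // Q x ∧ f x ≠ x} := by
  classical
  have := Fintype.ofFinite α
  let g : {x // Q x ∧ f x ≠ x} → {x // Q x ∧ f x ≠ x} := fun x =>
    ⟨f x, hQ _ x.2.1, fun h => x.2.2 (hf.injective h)⟩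
  obtain ⟨r, hr, -⟩ := sign_invol (f := g) fun x => Subtype.ext (hf x)
  rw [filter_eq_empty_iff.2 fun x _ h => x.2.2 (congrArg Subtype.val h)] at hr
  exact ⟨r, by rw [Nat.card_eq_fintype_card, ← hr]; simp⟩

theorem gal_conj {σ : ℂ ≃+* ℂ} {k : ℕ} (h : Sg G σ k) (χ : IrrCharacter G) :
    galIrr σ (conjIrr χ) = conjIrr (galIrr σ χ) := by
  ext g
  rw [h.gal, conjIrr_apply, conjIrr_apply, h.gal]

/-- The congruence for the principal block. -/
theorem Sg.cong0 {σ : ℂ ≃+* ℂ} {k : ℕ} (h : Sg G σ k) (h4 : 4 ∣ Nat.card G) :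
    8 ∣ 2 * Nat.card {x : G // x ^ 2 = 1} + Nat.card G +
      Nat.card {χ : IrrCharacter G // χ ∈ principalBlock M G ∧ ¬ 2 ∣ dg χ} +
      2 * Nat.card {χ : IrrCharacter G // χ ∈ principalBlock M G ∧
        ¬ 2 ∣ dg χ ∧ galIrr σ χ ≠ χ} := by
  have h1 := h.cong (even_iff_two_dvd.2 ((by norm_num : 2 ∣ 4).trans h4))
  obtain ⟨A, hA, hQ⟩ := exists_half (M := M) (G := G)
  rw [hQ (fun χ => ¬ 2 ∣ dg χ) (fun _ h => h) (fun χ h => by rwa [dg_conj]),
    hQ (fun χ => ¬ 2 ∣ dg χ ∧ galIrr σ χ ≠ χ) (fun _ h => h.1) (fun χ h' =>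
      ⟨by rw [dg_conj]; exact h'.1, fun e => h'.2 (conjIrr_involutive.injective
        (by rw [← gal_conj h, e]))⟩)] at h1
  have h2 := four_dvd hA h4
  have h3 := two_dvd_card_moved (f := galIrr σ) h.gal_gal (fun χ => χ ∈ A ∧ ¬ 2 ∣ dg χ)
    fun χ h' => ⟨mem_of_blockIdem_mem_OG hA h'.1 (h.sameBlock h'.2), by rw [dg_gal']; exact h'.2⟩
  simp only [and_assoc] at h3
  omega

end Cfsg.Agent.K0D
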