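import Mathlib

set_option autoImplicit false

namespace Cfsg.Agent.K0

theorem exists_red (a : ℤ) (ha : 0 < a) (z : ℤ) : ∃ q : ℤ, 4 * (z - a * q) ^ 2 ≤ a ^ 2 ∧
    (Odd a → 4 * (z - a * q) ^ 2 ≤ (a - 1) ^ 2) := by
  have h1 := Int.emod_nonneg z ha.ne'
  have h2 := Int.emod_lt_of_pos z ha
  have h3 := Int.emod_add_mul_ediv z a
  by_cases h : 2 * (z % a) ≤ a
  · refine ⟨z / a, ?_, ?_⟩
    · have : z - a * (z / a) = z % a := by linarith
      rw [this]; nlinarith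
    · rintro ⟨k, hk⟩
      have : z - a * (z / a) = z % a := by linarith
      rw [this]
      have : 2 * (z % a) ≤ a - 1 := by omega
      nlinarith
  · refine ⟨z / a + 1, ?_, ?_⟩
    · have : z - a * (z / a + 1) = z % a - a := by linarith
      rw [this]; nlinarith
    · rintro ⟨k, hk⟩
      have : z - a * (z / a + 1) = z % a - a := by linarith
      rw [this]
      have : a + 1 ≤ 2 * (z % a) := by omega
      nlinarith

theorem four_zero {a b c d : ℤ} (h : 0 = a ^ 2 + b ^ 2 + c ^ 2 + d ^ 2) :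
    a = 0 ∧ b = 0 ∧ c = 0 ∧ d = 0 := by
  refine ⟨?_, ?_, ?_, ?_⟩ <;> nlinarith [sq_nonneg a, sq_nonneg b, sq_nonneg c, sq_nonneg d]

/-- An odd positive binary Hermitian form of determinant one over the Lipschitz integers
represents one (written in coordinates). -/
theorem herm_one (n : ℕ) : ∀ (a c b0 b1 b2 b3 : ℤ), 0 < a → a ≤ n → a * c - (b0^2 + b1^2 + b2^2 + b3^2) = 1 →
    (Odd a ∨ Odd c) → ∃ x0 x1 x2 x3 y0 y1 y2 y3 : ℤ,
      a * (x0^2 + x1^2 + x2^2 + x3^2) + 2 * (x0*(b0*y0 - b1*y1 - b2*y2 - b3*y3) + x1*(b0*y1 + b1*y0 + b2*y3 - b3*y2) + x2*(b0*y2 - b1*y3 + b2*y0 + b3*y1) + x3*(b0*y3 + b1*y2 - b2*y1 + b3*y0)) + c * (y0^2 + y1^2 + y2^2 + y3^2) = 1 := by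
  induction n with
  | zero => intro a c b0 b1 b2 b3 h0 h1; simp at h1; omega
  | succ n ih =>
    intro a c b0 b1 b2 b3 h0 h1 hd ho
    by_cases ha1 : a = 1
    · exact ⟨1, 0, 0, 0, 0, 0, 0, 0, by simp [ha1]⟩
    obtain ⟨q0, h00, h01⟩ := exists_red a h0 b0
    obtain ⟨q1, h10, h11⟩ := exists_red a h0 b1
    obtain ⟨q2, h20, h21⟩ := exists_red a h0 b2
    obtain ⟨q3, h30, h31⟩ := exists_red a h0 b3
    obtain ⟨c', hc'⟩ : ∃ c' : ℤ, c' = c - 2 * (q0*b0 + q1*b1 + q2*b2 + q3*b3) + a * (q0^2 + q1^2 + q2^2 + q3^2) := ⟨_, rfl⟩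
    obtain ⟨N, hN⟩ : ∃ N : ℤ, N = ((b0 - a*q0)^2 + (b1 - a*q1)^2 + (b2 - a*q2)^2 + (b3 - a*q3)^2) := ⟨_, rfl⟩
    have hd' : a * c' - N = 1 := by
      rw [hN, hc']; linear_combination hd
    have ho' : Odd a ∨ Odd c' := by
      rcases Int.even_or_odd a with he | he
      · right
        rcases ho with ho | ho
        · exact absurd ho (Int.not_odd_iff_even.2 he)
        · obtain ⟨k, hk⟩ := he
          obtain ⟨l, hl⟩ := ho
          exact ⟨l - (q0*b0 + q1*b1 + q2*b2 + q3*b3) + k * (q0^2 + q1^2 + q2^2 + q3^2), by rw [hc', hk, hl]; ring⟩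
      · exact Or.inl he
    have hb0 : 0 ≤ N := by rw [hN]; positivity
    have hc0 : 0 < c' := by
      by_contra hc
      push Not at hc
      nlinarith
    have hlt : c' < a := by
      by_contra hc
      push Not at hc
      have hle : N ≤ a ^ 2 := by rw [hN]; linarith
      have hca : c' = a := by
        by_contra hne
        have : a + 1 ≤ c' := by omega
        have : 2 ≤ a := by omega
        nlinarith
      have hoa : Odd a := by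
        rcases ho' with h | h
        · exact h
        · rwa [hca] at h
      have hle' : N ≤ (a - 1) ^ 2 := by
        rw [hN]; linarith [h01 hoa, h11 hoa, h21 hoa, h31 hoa]
      rw [hca] at hd'
      have : 2 ≤ a := by omega
      nlinarith
    obtain ⟨y0, y1, y2, y3, x0, x1, x2, x3, hxy⟩ := ih c' a (b0 - a*q0) (-(b1 - a*q1)) (-(b2 - a*q2)) (-(b3 - a*q3)) hc0
      (by push_cast at h1; omega) (by rw [hN] at hd'; linear_combination hd') ho'.symm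
    refine ⟨x0 - (q0*y0 - q1*y1 - q2*y2 - q3*y3), x1 - (q0*y1 + q1*y0 + q2*y3 - q3*y2), x2 - (q0*y2 - q1*y3 + q2*y0 + q3*y1), x3 - (q0*y3 + q1*y2 - q2*y1 + q3*y0), y0, y1, y2, y3, ?_⟩
    rw [hc'] at hxy
    linear_combination hxy

theorem quat' (p : ℤ) (hp : 1 < p) (ho : Odd p) (d0 d1 d2 d3 : ℤ) (h : p ∣ 1 + (d0^2 + d1^2 + d2^2 + d3^2)) :
    ∃ t u0 u1 u2 u3 : ℤ, 0 < t ∧ t < p ∧ p ∣ u0 - t * d0 ∧ p ∣ u1 - t * d1 ∧ p ∣ u2 - t * d2 ∧
      p ∣ u3 - t * d3 ∧ (u0^2 + u1^2 + u2^2 + u3^2) = t * (p - t) := by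
  obtain ⟨m, hm⟩ := h
  have hm0 : 0 < m := by
    have : 0 ≤ (d0^2 + d1^2 + d2^2 + d3^2) := by positivity
    by_contra hc
    push Not at hc
    nlinarith
  obtain ⟨x0, x1, x2, x3, y0, y1, y2, y3, hxy⟩ := herm_one m.toNat m p d0 d1 d2 d3 hm0 (by omega)
    (by linear_combination -hm) (Or.inr ho)
  obtain ⟨e0, he0⟩ : ∃ e : ℤ, e = ((d0*x0 - (-d1)*x1 - (-d2)*x2 - (-d3)*x3) + p*y0) := ⟨_, rfl⟩
  obtain ⟨e1, he1⟩ : ∃ e : ℤ, e = ((d0*x1 + (-d1)*x0 + (-d2)*x3 - (-d3)*x2) + p*y1) := ⟨_, rfl⟩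
  obtain ⟨e2, he2⟩ : ∃ e : ℤ, e = ((d0*x2 - (-d1)*x3 + (-d2)*x0 + (-d3)*x1) + p*y2) := ⟨_, rfl⟩
  obtain ⟨e3, he3⟩ : ∃ e : ℤ, e = ((d0*x3 + (-d1)*x2 - (-d2)*x1 + (-d3)*x0) + p*y3) := ⟨_, rfl⟩
  have hsum : (x0^2 + x1^2 + x2^2 + x3^2) + (e0^2 + e1^2 + e2^2 + e3^2) = p := by
    rw [he0, he1, he2, he3]
    linear_combination p * hxy + (x0^2 + x1^2 + x2^2 + x3^2) * hm
  have hx0 : 0 ≤ (x0^2 + x1^2 + x2^2 + x3^2) := by positivity
  have he : 0 ≤ (e0^2 + e1^2 + e2^2 + e3^2) := by positivity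
  refine ⟨(x0^2 + x1^2 + x2^2 + x3^2), (x0*e0 - x1*(-e1) - x2*(-e2) - x3*(-e3)), (x0*(-e1) + x1*e0 + x2*(-e3) - x3*(-e2)), (x0*(-e2) - x1*(-e3) + x2*e0 + x3*(-e1)), (x0*(-e3) + x1*(-e2) - x2*(-e1) + x3*e0), ?_, ?_, ?_, ?_, ?_, ?_, ?_⟩
  · rcases hx0.lt_or_eq with h | h
    · exact h
    · exfalso
      obtain ⟨z0, z1, z2, z3⟩ := four_zero h
      rw [z0, z1, z2, z3] at hxy
      have h1 : p * (y0^2 + y1^2 + y2^2 + y3^2) = 1 := by linear_combination hxy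
      have := Int.eq_one_or_neg_one_of_mul_eq_one h1
      omega
  · rcases he.lt_or_eq with h | h
    · linarith
    · exfalso
      obtain ⟨z0, z1, z2, z3⟩ := four_zero h
      have g0 : (d0*e0 - d1*e1 - d2*e2 - d3*e3) = 0 := by rw [z0, z1, z2, z3]; ring
      have k0 : x0 = p * (m * x0 + (d0*y0 - d1*y1 - d2*y2 - d3*y3)) := by
        rw [he0, he1, he2, he3] at g0
        linear_combination -g0 + x0 * hm
      have g1 : (d0*e1 + d1*e0 + d2*e3 - d3*e2) = 0 := by rw [z0, z1, z2, z3]; ring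
      have k1 : x1 = p * (m * x1 + (d0*y1 + d1*y0 + d2*y3 - d3*y2)) := by
        rw [he0, he1, he2, he3] at g1
        linear_combination -g1 + x1 * hm
      have g2 : (d0*e2 - d1*e3 + d2*e0 + d3*e1) = 0 := by rw [z0, z1, z2, z3]; ring
      have k2 : x2 = p * (m * x2 + (d0*y2 - d1*y3 + d2*y0 + d3*y1)) := by
        rw [he0, he1, he2, he3] at g2
        linear_combination -g2 + x2 * hm
      have g3 : (d0*e3 + d1*e2 - d2*e1 + d3*e0) = 0 := by rw [z0, z1, z2, z3]; ring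
      have k3 : x3 = p * (m * x3 + (d0*y3 + d1*y2 - d2*y1 + d3*y0)) := by
        rw [he0, he1, he2, he3] at g3
        linear_combination -g3 + x3 * hm
      obtain ⟨w0, hw0⟩ : ∃ w : ℤ, x0 = p * w := ⟨_, k0⟩
      obtain ⟨w1, hw1⟩ : ∃ w : ℤ, x1 = p * w := ⟨_, k1⟩
      obtain ⟨w2, hw2⟩ : ∃ w : ℤ, x2 = p * w := ⟨_, k2⟩
      obtain ⟨w3, hw3⟩ : ∃ w : ℤ, x3 = p * w := ⟨_, k3⟩
      have h7 : (x0^2 + x1^2 + x2^2 + x3^2) = p := by linarith
      rw [hw0, hw1, hw2, hw3] at h7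
      have h8 : p * (p * (w0^2 + w1^2 + w2^2 + w3^2)) = p * 1 := by linear_combination h7
      have h9 := mul_left_cancel₀ (by omega : p ≠ 0) h8
      have := Int.eq_one_or_neg_one_of_mul_eq_one h9
      omega
  · exact ⟨(x0*y0 - x1*(-y1) - x2*(-y2) - x3*(-y3)), by rw [he0, he1, he2, he3]; ring⟩
  · exact ⟨(x0*(-y1) + x1*y0 + x2*(-y3) - x3*(-y2)), by rw [he0, he1, he2, he3]; ring⟩
  · exact ⟨(x0*(-y2) - x1*(-y3) + x2*y0 + x3*(-y1)), by rw [he0, he1, he2, he3]; ring⟩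
  · exact ⟨(x0*(-y3) + x1*(-y2) - x2*(-y1) + x3*y0), by rw [he0, he1, he2, he3]; ring⟩
  · have : p - (x0^2 + x1^2 + x2^2 + x3^2) = (e0^2 + e1^2 + e2^2 + e3^2) := by linarith
    rw [this]; ring

theorem quat (p : ℤ) (hp : 1 < p) (ho : Odd p) (d : Fin 4 → ℤ) (h : p ∣ 1 + ∑ i, d i ^ 2) :
    ∃ (t : ℤ) (u : Fin 4 → ℤ), 0 < t ∧ t < p ∧ (∀ i, p ∣ u i - t * d i) ∧
      ∑ i, u i ^ 2 = t * (p - t) := by
  rw [Fin.sum_univ_four] at h
  obtain ⟨t, u0, u1, u2, u3, h0, h1, h2, h3, h4, h5, h6⟩ := quat' p hp ho _ _ _ _ h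
  refine ⟨t, ![u0, u1, u2, u3], h0, h1, ?_, ?_⟩
  · intro i; fin_cases i
    · exact h2
    · exact h3
    · exact h4
    · exact h5
  · rw [Fin.sum_univ_four]; exact h6

end Cfsg.Agent.K0
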