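import Cfsg.Agent.Lib.K0.Fwd
import Cfsg.Agent.S4926
import Mathlib.GroupTheory.Transfer

/-!
# Four characters of odd degree in the principal `2`-block
-/

set_option autoImplicit false
set_option linter.unusedSectionVars false

open Cfsg Cfsg.Agent.H3 Cfsg.Agent.H5 Cfsg.Agent.K0 Finset Subgroup
open scoped ComplexConjugate

namespace Cfsg.Agent.K0D

variable {M : Ideal AlgInt} [PMod 2 M] {G : Type*} [Group G] [Finite G]

/-- the linear character as an irreducible character -/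
def lin (l : G →* ℂˣ) : IrrCharacter G := ⟨_, isIrrCharacter_linear l⟩

@[simp] theorem lin_apply (l : G →* ℂˣ) (g : G) : (lin l : G → ℂ) g = l g := rfl

theorem lin_inj : Function.Injective (lin (G := G)) := fun l l' h => by
  ext x; exact congrFun (congrArg Subtype.val h) x

theorem dg_lin (l : G →* ℂˣ) : dg (lin l) = 1 := charDegree_eq (by simp)

theorem exists_lin {χ : IrrCharacter G} (h : dg χ = 1) : ∃ l, χ = lin l := by
  obtain ⟨l, e⟩ := IsCharacter_exists_linear (IsIrrCharacter_isCharacter χ.2)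
    (by rw [← irr_charDegree, show charDegree (χ : G → ℂ) = 1 from h, Nat.cast_one])
  exact ⟨l, Subtype.ext e⟩

theorem lin_one : lin (1 : G →* ℂˣ) = trivChar G := by ext g; simp

theorem dg_triv : dg (trivChar G) = 1 := by rw [← lin_one, dg_lin]

variable (M) in
/-- odd degree and in the principal block -/
abbrev YY (χ : IrrCharacter G) : Prop := χ ∈ principalBlock M G ∧ ¬ 2 ∣ dg χ

theorem YY_of_res {χ ψ : IrrCharacter G} (h : YY M χ) (hd : dg ψ = dg χ)
    (e : ∀ g, res M ((χ : G → ℂ) g) = res M ((ψ : G → ℂ) g)) : YY M ψ :=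
  ⟨blk_mem_of_sameBlock isPBlock_principal h.1 (sameBlock_of_res h.2 (hd ▸ h.2) e), hd ▸ h.2⟩

theorem YY_triv : YY M (trivChar G) := ⟨triv_mem_principal, by rw [dg_triv]; norm_num⟩

theorem YY_lin {l : G →* ℂˣ} {j : ℕ} (h : ∀ g, l g ^ 2 ^ j = 1) : YY M (lin l) :=
  YY_of_res YY_triv (by rw [dg_lin, dg_triv]) fun g => by
    rw [lin_apply, res_eq_one_of_pow_eq_one (p := 2) (k := j) (z := (l g : ℂ))
      (by rw [← Units.val_pow_eq_pow_val, h, Units.val_one])]
    simp

theorem index_le_of_lin (P : Sylow 2 G) (h : ∀ χ : IrrCharacter G, YY M χ → dg χ = 1) :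
    (_root_.commutator P).index ≤ Nat.card {χ : IrrCharacter G // YY M χ} := by
  classical
  have := Fintype.ofFinite G
  obtain ⟨L, j, c, hj, hc, hl⟩ := exists_c (M := M) P
  have h1 : ∀ l : P →* ℂˣ, ∃ χ : {χ : IrrCharacter G // YY M χ},
      ∀ x : P, (χ.1 : G → ℂ) (j (x, 1)) = l x := fun l => by
    by_contra hn
    push Not at hn
    have h2 := hl l
    have h3 : (fun h => cmb (rr M) (j h)) =
        ∑ χ : IrrCharacter G, (rr M χ : ℂ) • fun h => (χ : G → ℂ) (j h) := by
      funext h; simp [cmb_apply]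
    choose n hn' using fun χ : IrrCharacter G => IsGeneralized_classInner
      (IsGeneralized_comp j (IsIrrCharacter_isGeneralized χ.2))
      (IsIrrCharacter_isGeneralized (lin (l.comp (MonoidHom.fst P L))).2)
    rw [h3, classInner_sum_left] at h2
    simp only [classInner_smul_left] at h2
    have h4 : ∑ χ, rr M χ * n χ = c := by
      apply Int.cast_injective (α := ℂ)
      push_cast
      rw [← h2]
      exact sum_congr rfl fun χ _ => by rw [← hn']; rfl
    refine hc (h4 ▸ dvd_sum fun χ _ => ?_)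
    by_cases h5 : ((2 : ℕ) : ℤ) ∣ rr M χ
    · exact h5.mul_right _
    have h6 : YY M χ := (dvd_rr_iff χ).1 h5
    obtain ⟨μ, rfl⟩ := exists_lin (h χ h6)
    obtain ⟨x, hx⟩ := hn ⟨_, h6⟩
    have h7 := classInner_irr (lin (μ.comp j)) (lin (l.comp (MonoidHom.fst P L)))
    rw [if_neg fun e => hx (congrFun (congrArg Subtype.val e) (x, 1))] at h7
    have h8 : n (lin μ) = 0 := Int.cast_injective (α := ℂ) (by rw [← hn', Int.cast_zero]; exact h7)
    rw [h8, mul_zero]
    exact dvd_zero _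
  choose f hf using h1
  rw [← card_monoidHom_units]
  refine Nat.card_le_card_of_injective f fun l l' e => ?_
  ext x
  rw [← hf, ← hf, e]

theorem index_le_of_cyclic (P : Sylow 2 G) (h2 : 2 ∣ Nat.card G) (hP : IsCyclic P) :
    (_root_.commutator P).index ≤ Nat.card {χ : IrrCharacter G // YY M χ} := by
  have hN := hP.normalizer_le_centralizer ((Nat.minFac_eq_two_iff _).2 h2)
  obtain ⟨j, hj⟩ := IsPGroup.iff_card.1 P.isPGroup'
  have hf : Function.Bijective ((MonoidHom.transferSylow P hN).domRestrict (P : Subgroup G)) :=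
    (MonoidHom.transferSylow_domRestrict_eq_pow P hN).symm ▸
      (P.2.powEquiv' P.not_dvd_index).bijective
  rw [← card_monoidHom_units]
  refine Nat.card_le_card_of_injective (fun l => ⟨lin (l.comp (MonoidHom.transferSylow P hN)),
    YY_lin (j := j) fun g => by
      rw [MonoidHom.comp_apply, ← map_pow, ← hj, pow_card_eq_one', map_one]⟩) fun l l' e => ?_
  have e1 := lin_inj (congrArg Subtype.val e)
  refine MonoidHom.ext fun x => ?_
  obtain ⟨y, rfl⟩ := hf.2 x
  exact DFunLike.congr_fun e1 (y : G)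

theorem cyclic_of_inv {P : Type*} [Group P] [Finite P] (hP : IsPGroup 2 P)
    (h8 : 8 ∣ (_root_.commutator P).index) (ht : Nat.card {x : P // x ^ 2 = 1} % 4 = 2) :
    IsCyclic P := by
  classical
  obtain ⟨σ, k, h⟩ := exists_sg P
  have h8' : 8 ∣ Nat.card P := h8.trans (index_dvd_card _)
  have h1 := h.cong (even_iff_two_dvd.2 ((by norm_num : 2 ∣ 8).trans h8'))
  have hd : ∀ χ : IrrCharacter P, ¬ 2 ∣ dg χ ↔ ∃ l, χ = lin l := fun χ => by
    refine ⟨fun h => exists_lin ?_, by rintro ⟨l, rfl⟩; rw [dg_lin]; norm_num⟩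
    obtain ⟨n, hn⟩ := IsPGroup.iff_card.1 hP
    obtain ⟨i, -, hi⟩ := (Nat.dvd_prime_pow Nat.prime_two).1
      (hn ▸ IsIrrCharacter_charDegree_dvd χ.2)
    rcases i with _ | i
    · exact hi
    · exact absurd (by rw [dg, hi, pow_succ]; exact dvd_mul_left _ _) h
  have hg : ∀ l : P →* ℂˣ, galIrr σ (lin l) = lin l ↔ l ^ 2 = 1 := fun l => by
    have : galIrr σ (lin l) = lin l⁻¹ := by
      ext g
      obtain ⟨j, hj⟩ := hP g
      rw [h.gal, h.two g j hj]
      simp
    rw [this, lin_inj.eq_iff, DFunLike.ext_iff, DFunLike.ext_iff]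
    simp only [MonoidHom.inv_apply, MonoidHom.pow_apply, MonoidHom.one_apply,
      inv_eq_iff_mul_eq_one, sq, MonoidHom.mul_apply]
  let H : Subgroup (P →* ℂˣ) := (powMonoidHom 2).ker
  have e1 : Nat.card {χ : IrrCharacter P // ¬ 2 ∣ dg χ} = Nat.card (P →* ℂˣ) :=
    (Nat.card_congr (Equiv.ofBijective (fun l => ⟨lin l, (hd _).2 ⟨l, rfl⟩⟩)
      ⟨fun _ _ e => lin_inj (congrArg Subtype.val e), fun χ => by
        obtain ⟨l, hl⟩ := (hd _).1 χ.2
        exact ⟨l, Subtype.ext hl.symm⟩⟩)).symm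
  have e2 : Nat.card {χ : IrrCharacter P // ¬ 2 ∣ dg χ ∧ galIrr σ χ ≠ χ} =
      Nat.card {l : P →* ℂˣ // l ∉ H} :=
    (Nat.card_congr (Equiv.ofBijective (fun l => ⟨lin l.1, (hd _).2 ⟨l.1, rfl⟩,
        fun e => l.2 ((hg _).1 e)⟩)
      ⟨fun _ _ e => Subtype.ext (lin_inj (congrArg Subtype.val e)), fun χ => by
        obtain ⟨l, hl⟩ := (hd _).1 χ.2.1
        exact ⟨⟨l, fun e => χ.2.2 (hl ▸ (hg l).2 e)⟩, Subtype.ext hl.symm⟩⟩)).symm
  have hfin : Finite (P →* ℂˣ) := Finite.of_injective _ lin_inj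
  have e3 : Nat.card H + Nat.card {l : P →* ℂˣ // l ∉ H} = Nat.card (P →* ℂˣ) := by
    rw [← Nat.card_sum]; exact Nat.card_congr (Equiv.sumCompl (· ∈ H))
  have e4 := card_monoidHom_units P
  have h2 : Nat.card H % 4 = 2 := by omega
  have h3 : Nat.card H = 2 := by
    obtain ⟨n, hn⟩ := IsPGroup.iff_card.1 hP
    obtain ⟨i, -, hi⟩ := (Nat.dvd_prime_pow Nat.prime_two).1
      (hn ▸ ((e4 ▸ card_subgroup_dvd_card H).trans (index_dvd_card _)))
    rw [hi] at h2 ⊢
    match i with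
    | 0 => simp at h2
    | 1 => rfl
    | i + 2 => rw [pow_add] at h2; omega
  refine H1.isCyclic_of_isCyclic_frattini_quotient ?_
  have h4 : Nat.card (P ⧸ frattini P →* ℂˣ) ≤ Nat.card H := by
    refine Nat.card_le_card_of_injective (fun l => ⟨l.comp (QuotientGroup.mk' _), ?_⟩)
      fun l l' e => ?_
    · refine MonoidHom.mem_ker.2 (MonoidHom.ext fun x => ?_)
      have := (QuotientGroup.eq_one_iff _).2 (H1.pow_mem_frattini hP x)
      simpa using congrArg l this
    · exact (MonoidHom.cancel_right (QuotientGroup.mk'_surjective _)).1 (congrArg Subtype.val e)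
  rw [card_monoidHom_units, h3, (commutator_eq_bot_iff_center_eq_top _).2, index_bot] at h4
  · have h5 : 0 < Nat.card (P ⧸ frattini P) := Nat.card_pos
    rcases (by omega : Nat.card (P ⧸ frattini P) = 1 ∨ Nat.card (P ⧸ frattini P) = 2) with h6 | h6
    · have := (Nat.card_eq_one_iff_unique.1 h6).1
      infer_instance
    · exact isCyclic_of_prime_card (p := 2) h6
  · rw [← commutator_eq_bot_iff_center_eq_top, _root_.commutator_def, ← map_top_of_surjective _
      (QuotientGroup.mk'_surjective (frattini P)), ← map_commutator, Subgroup.map_eq_bot_iff,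
      QuotientGroup.ker_mk']
    exact H1.commutator_le_frattini hP

theorem lin_of_moved (h2 : 2 ∣ Nat.card G) (h4 : Nat.card {χ : IrrCharacter G // YY M χ} = 4)
    {σ : ℂ ≃+* ℂ} {k : ℕ} (h : Sg G σ k) {χ : IrrCharacter G} (hχ : YY M χ)
    (hm : galIrr σ χ ≠ χ) (ψ : IrrCharacter G) (hψ : YY M ψ) : dg ψ = 1 := by
  classical
  have hχ' : YY M (galIrr σ χ) := YY_of_res hχ (dg_gal σ χ) fun g => (h.res_gal χ g).symm
  have ht : galIrr σ (trivChar G) = trivChar G := by ext g; simp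
  have n1 : χ ≠ trivChar G := fun e => hm (by rw [e, ht])
  have n2 : galIrr σ χ ≠ trivChar G := fun e => n1 ((galIrr σ).injective (by rw [e, ht]))
  rw [Nat.card_eq_fintype_card, Fintype.card_subtype] at h4
  set Y := univ.filter fun χ : IrrCharacter G => YY M χ with hY
  have mY : ∀ χ, χ ∈ Y ↔ YY M χ := fun χ => by simp [hY]
  have hs : ({trivChar G, χ, galIrr σ χ} : Finset _) ⊆ Y := by
    simp only [insert_subset_iff, singleton_subset_iff, mY]
    exact ⟨YY_triv, hχ, hχ'⟩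
  have h3 : ({trivChar G, χ, galIrr σ χ} : Finset _).card = 3 :=
    card_eq_three.2 ⟨_, _, _, n1.symm, n2.symm, hm.symm, rfl⟩
  obtain ⟨θ, hθ⟩ := card_eq_one.1 (show (Y \ {trivChar G, χ, galIrr σ χ}).card = 1 by
    rw [card_sdiff_of_subset hs, h4, h3])
  have hθ1 : θ ∈ Y \ {trivChar G, χ, galIrr σ χ} := by rw [hθ]; exact mem_singleton_self _
  simp only [mem_sdiff, mem_insert, mem_singleton, not_or] at hθ1
  obtain ⟨hθY, m1, m2, m3⟩ := hθ1
  have hall : ∀ ψ, YY M ψ → ψ = θ ∨ ψ = trivChar G ∨ ψ = χ ∨ ψ = galIrr σ χ := fun ψ hψ => by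
    by_contra hn
    simp only [not_or] at hn
    have : ψ ∈ Y \ {trivChar G, χ, galIrr σ χ} := by
      simp only [mem_sdiff, mem_insert, mem_singleton, not_or]
      exact ⟨(mY _).2 hψ, hn.2⟩
    rw [hθ, mem_singleton] at this
    exact hn.1 this
  have hθr : ∀ g, res M ((θ : G → ℂ) g) = 1 := fun g => by
    have e1 : res M (cmb (rr M) g) = 0 := by
      have := res_mul (cmb_rr_div (M := M) h2 g) (natCast_mem (locRing M) 2)
      rwa [div_mul_cancel₀ _ (p_ne_zero M), res_natCast, resField_p_eq_zero, mul_zero] at this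
    rw [cmb_apply, res_sum _ fun χ _ => mul_mem (intCast_mem _ _) (irr_mem _ _)] at e1
    have e2 : ∀ ψ : IrrCharacter G, res M ((rr M ψ : ℂ) * (ψ : G → ℂ) g) =
        if YY M ψ then res M ((ψ : G → ℂ) g) else 0 := fun ψ => by
      rw [res_mul (intCast_mem _ _) (irr_mem _ _)]
      split_ifs with hy
      · rw [rr, if_pos hy.1, Int.cast_natCast, res_natCast, res_odd hy.2, one_mul]
      · rw [res_eq_zero_of_mem (intCast_mem_locIdeal_iff.2
          (not_not.1 fun e => hy ((dvd_rr_iff ψ).1 e))), zero_mul]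
    simp only [e2] at e1
    rw [← sum_filter, ← hY, ← sum_sdiff hs, hθ, sum_singleton, sum_insert (by simp [n1.symm, n2.symm]),
      sum_pair hm.symm, h.res_gal, trivChar_apply, res_one] at e1
    linear_combination e1 - (1 + res M ((χ : G → ℂ) g)) * two_eq_zero (M := M)
  have hθd : dg θ = 1 := by
    by_contra hne
    have := H4.charDegree_pos θ.2
    obtain ⟨y, hy⟩ := H4.exists_zero_of_nonlinear θ.2 (by unfold dg at hne; omega)
    have := hθr y
    rw [hy, res_zero] at this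
    exact zero_ne_one this
  suffices hd : dg χ = 1 by
    rcases hall ψ hψ with rfl | rfl | rfl | rfl
    exacts [hθd, dg_triv, hd, by rw [dg_gal, hd]]
  by_contra hd
  obtain ⟨l, rfl⟩ := exists_lin hθd
  have hlin : ∀ μ, YY M (lin μ) → μ = l ∨ μ = 1 := fun μ hμ => by
    rcases hall _ hμ with e | e | e | e
    · exact Or.inl (lin_inj e)
    · exact Or.inr (lin_inj (e.trans lin_one.symm))
    · exact absurd (e ▸ dg_lin μ) hd
    · exact absurd (by rw [← dg_gal σ, ← e, dg_lin]) hd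
  have hl1 : l ≠ 1 := fun e => m1 (by rw [e, lin_one])
  have hl2 : l ^ 2 = 1 := by
    refine (hlin (l ^ 2) (YY_of_res YY_triv (by rw [dg_lin, dg_triv]) fun g => ?_)).resolve_left
      fun e => hl1 (by simpa [sq] using e)
    have := res_pow (M := M) (irr_mem (lin l) g) 2
    rw [hθr, one_pow] at this
    simpa using this.symm
  obtain ⟨x, hx, hx2⟩ : ∃ x, l x ≠ 1 ∧ ∃ j, orderOf x = 2 ^ j := by
    obtain ⟨g, hg⟩ := DFunLike.ne_iff.1 hl1
    refine ⟨pPart 2 g, fun e => hg ?_, pPart_pElt g⟩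
    have e1 : (l (pPart' 2 g) : ℂ) = 1 := eq_one_of_res_eq_one (pPart'_pReg (p := 2) g)
      (by rw [← Units.val_pow_eq_pow_val, ← map_pow, pow_orderOf_eq_one, map_one, Units.val_one])
      (hθr _)
    rw [← pPart_mul_pPart' (p := 2) g, map_mul, e, Units.val_eq_one.1 e1]
    simp
  let ξ : IrrCharacter G := ⟨_, IsIrrCharacter_mul_linear χ.2 l⟩
  have hξa : ∀ g, (ξ : G → ℂ) g = l g * (χ : G → ℂ) g := fun g => rfl
  have hξd : dg ξ = dg χ := charDegree_eq (by rw [hξa, irr_charDegree]; simp)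
  have hξ : YY M ξ := YY_of_res hχ hξd fun g => by
    rw [hξa, res_mul (x := (l g : ℂ)) (irr_mem (lin l) g) (irr_mem _ _),
      show res M (l g : ℂ) = 1 from hθr g, one_mul]
  have hξe : ξ = galIrr σ χ := by
    rcases hall _ hξ with e | e | e | e
    · exact absurd (by rw [← hξd, e, dg_lin]) hd
    · exact absurd (by rw [← hξd, e, dg_triv]) hd
    · have e1 := hξa x
      rw [e] at e1
      have e2 : (χ : G → ℂ) x ≠ 0 := ne_zero_of_res_ne_zero (M := M) (by
        rw [res_char_pElt (IsIrrCharacter_isCharacter χ.2) hx2, res_deg hχ.2]; exact one_ne_zero)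
      exact absurd (Units.val_eq_one.1 (mul_right_cancel₀ e2 (by rw [← e1, one_mul]))) hx
    · exact e
  obtain ⟨R, hR⟩ := exists_fam (G := G)
  let R1 : G →* Matrix (Fin (dg χ)) (Fin (dg χ)) ℂ :=
    (σ.toRingHom.mapMatrix : Matrix _ _ ℂ →+* Matrix _ _ ℂ).toMonoidHom.comp (R χ)
  let R2 : G →* Matrix (Fin (dg χ)) (Fin (dg χ)) ℂ :=
    { toFun := fun g => (l g : ℂ) • R χ g
      map_one' := by simp
      map_mul' := fun a b => by simp [smul_smul, mul_comm] }
  obtain ⟨U, V, hUV, hc⟩ := exists_conj R1 R2 fun g => by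
    change _ = ((l g : ℂ) • R χ g).trace
    rw [Matrix.trace_smul, hR, smul_eq_mul, ← hξa, hξe, galIrr_apply, ← hR]
    simp [R1, Matrix.trace]
  let δ : G →* ℂˣ := (Matrix.detMonoidHom.comp (R χ)).toHomUnits
  have hδ : ∀ g, (δ g : ℂ) = (R χ g).det := fun g => rfl
  have e1 : (l x : ℂ) ^ dg χ * δ x = σ (δ x) := by
    have := congrArg Matrix.det (hc x)
    rw [Matrix.det_mul, Matrix.det_mul, mul_right_comm, ← Matrix.det_mul, hUV, Matrix.det_one,
      one_mul] at this
    change ((l x : ℂ) • R χ x).det = (σ.toRingHom.mapMatrix (R χ x)).det at this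
    rwa [Matrix.det_smul, Fintype.card_fin, ← RingHom.map_det, ← hδ] at this
  obtain ⟨j, hj⟩ := hx2
  have e2 : σ (δ x) = δ x⁻¹ := by
    have := h.gal (lin δ) x
    rwa [h.two x j (by rw [← hj, pow_orderOf_eq_one])] at this
  obtain ⟨a, m, hmo, hn⟩ := Nat.exists_eq_two_pow_mul_odd (Nat.card_pos (α := G)).ne'
  have e3 : (δ ^ m) ^ 2 = 1 := by
    rcases hlin (δ ^ m) (YY_lin (j := a) fun g => by
      rw [MonoidHom.pow_apply, ← pow_mul, mul_comm, ← hn, ← map_pow, pow_card_eq_one', map_one])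
      with e | e <;> rw [e]
    exacts [hl2, by ext; simp]
  have e4 : l x ^ dg χ * δ x ^ 2 = 1 := by
    rw [e2, map_inv] at e1
    have : l x ^ dg χ * δ x = (δ x)⁻¹ := Units.ext (by simpa using e1)
    rw [sq, ← mul_assoc, this, inv_mul_cancel]
  have e5 : (δ x ^ 2) ^ m = 1 := by
    rw [← pow_mul, mul_comm, pow_mul]; exact DFunLike.congr_fun e3 x
  have e6 : l x ^ 2 = 1 := DFunLike.congr_fun hl2 x
  have e7 : l x ^ (dg χ * m) = 1 := by
    have := congrArg (· ^ m) e4
    simp only [mul_pow, e5, one_pow, mul_one] at this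
    rw [pow_mul, this]
  obtain ⟨c, hc⟩ := (Nat.odd_iff.2 (Nat.two_dvd_ne_zero.1 hχ.2)).mul hmo
  rw [hc, pow_succ, pow_mul, e6, one_pow, one_mul] at e7
  exact hx e7

theorem not_eight_dvd (P : Sylow 2 G) (h4 : Nat.card {χ : IrrCharacter G // YY M χ} = 4)
    (hinv : 4 ∣ Nat.card G →
      Nat.card {x : G // x ^ 2 = 1} ≡ Nat.card {x : P // x ^ 2 = 1} [MOD 4]) :
    ¬ 8 ∣ (_root_.commutator P).index := fun h8 => by
  have h8' : 8 ∣ Nat.card G := (h8.trans (index_dvd_card _)).trans (card_subgroup_dvd_card _)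
  have h2 : 2 ∣ Nat.card G := (by norm_num : 2 ∣ 8).trans h8'
  have h0 := Nat.le_of_dvd (Nat.pos_of_ne_zero (_root_.commutator P).index_ne_zero_of_finite) h8
  obtain ⟨σ, k, h⟩ := exists_sg G
  by_cases hm : ∃ χ : IrrCharacter G, YY M χ ∧ galIrr σ χ ≠ χ
  · obtain ⟨χ, hχ, hm⟩ := hm
    have := index_le_of_lin P (lin_of_moved h2 h4 h hχ hm)
    omega
  have h5 : 4 ∣ Nat.card G := (by norm_num : 4 ∣ 8).trans h8'
  have h1 := h.cong0 (M := M) h5
  have : IsEmpty {χ : IrrCharacter G // χ ∈ principalBlock M G ∧ ¬ 2 ∣ dg χ ∧ galIrr σ χ ≠ χ} :=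
    ⟨fun χ => hm ⟨χ.1, ⟨χ.2.1, χ.2.2.1⟩, χ.2.2.2⟩⟩
  rw [h4, Nat.card_of_isEmpty (α := {χ : IrrCharacter G // χ ∈ principalBlock M G ∧
    ¬ 2 ∣ dg χ ∧ galIrr σ χ ≠ χ})] at h1
  have h6 : _ % 4 = _ % 4 := hinv h5
  have h7 : Nat.card {x : P // x ^ 2 = 1} % 4 = 2 := by omega
  have := index_le_of_cyclic (M := M) P h2 (cyclic_of_inv P.isPGroup' h8 h7)
  omega

theorem index_eq_four (P : Sylow 2 G) (h4 : Nat.card {χ : IrrCharacter G // YY M χ} = 4)
    (hinv : 4 ∣ Nat.card G →
      Nat.card {x : G // x ^ 2 = 1} ≡ Nat.card {x : P // x ^ 2 = 1} [MOD 4]) :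
    (_root_.commutator P).index = 4 := by
  have h8 := not_eight_dvd P h4 hinv
  have hG : 2 ∣ Nat.card G := dvd_card_of_count (M := M) (by norm_num) h4
  have : Nontrivial P := P.isPGroup'.nontrivial_iff_card.2 ⟨_,
    Nat.prime_two.factorization_pos_of_dvd Nat.card_pos.ne' hG, P.card_eq_multiplicity⟩
  have h7 := H1.commutator_le_frattini P.isPGroup'
  have h9 : _root_.commutator P ≠ ⊤ := fun h => H1.frattini_ne_top (top_le_iff.1 (h ▸ h7))
  obtain ⟨i, hi⟩ := P.isPGroup'.index (_root_.commutator P)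
  match i with
  | 0 => exact absurd (index_eq_one.1 (by simpa using hi)) h9
  | 1 =>
    obtain ⟨t, ht, h1⟩ := S4926.count_eq (M := M) P (card_eq_of_index P.isPGroup' (by simpa using hi))
    rw [h4] at h1
    generalize Nat.card (autE (P : Subgroup G)) = e at ht h1
    have h2 : t * e = 1 := by omega
    have := Nat.eq_one_of_mul_eq_one_left h2
    have := Nat.eq_one_of_mul_eq_one_right h2
    omega
  | 2 => simpa using hi
  | i + 3 => exact absurd (by rw [hi, pow_add]; exact dvd_mul_left _ _) h8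

theorem count_of_odd (h4 : Nat.card {χ : IrrCharacter G // ¬ 2 ∣ dg χ} = 4) :
    Nat.card {χ : IrrCharacter G // YY M χ} = 4 := by
  classical
  have h1 : 4 ∣ ∑ χ : IrrCharacter G, (3 * dg χ ^ 2 + if ¬ 2 ∣ dg χ then 1 else 0) :=
    dvd_sum fun χ _ => by
      generalize dg χ = d
      obtain ⟨c, hc⟩ : ∃ c, d = 2 * c ∨ d = 2 * c + 1 := ⟨d / 2, by omega⟩
      have e1 : (2 * c) ^ 2 = 4 * c ^ 2 := by ring
      have e2 : (2 * c + 1) ^ 2 = 4 * c ^ 2 + 4 * c + 1 := by ring
      rcases hc with rfl | rfl <;> split_ifs <;> omega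
  rw [sum_add_distrib, ← mul_sum, ← card_filter, sum_dg_sq, ← Fintype.card_subtype,
    ← Nat.card_eq_fintype_card, h4] at h1
  have h2 := four_dvd (blk_idem_mem (isPBlock_principal (M := M) (G := G))).1 (by omega)
  have h3 : Nat.card {χ : IrrCharacter G // YY M χ} ≤ 4 := h4 ▸
    Nat.card_le_card_of_injective (fun χ => ⟨χ.1, χ.2.2⟩) fun _ _ e =>
      Subtype.ext (by simpa using e)
  have : Nonempty {χ : IrrCharacter G // YY M χ} := ⟨⟨_, YY_triv⟩⟩
  have h5 : 0 < Nat.card {χ : IrrCharacter G // YY M χ} := Nat.card_pos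
  change 4 ∣ Nat.card {χ : IrrCharacter G // YY M χ} at h2
  omega

end Cfsg.Agent.K0D
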