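import Cfsg.Agent.Lib.K0.Det
import Mathlib.NumberTheory.GaussSum
import Mathlib.NumberTheory.LegendreSymbol.QuadraticChar.Basic
import Mathlib.NumberTheory.LegendreSymbol.QuadraticChar.GaussSum
import Mathlib.Analysis.SpecialFunctions.Complex.CircleAddChar

/-!
# A congruence modulo eight
-/

set_option autoImplicit false
set_option linter.unusedSectionVars false

open Cfsg Cfsg.Agent.H3 Finset

namespace Cfsg.Agent.K0D

theorem exists_gauss (σ : ℂ ≃+* ℂ) {q : ℕ} (hq : q.Prime) (ho : Odd q)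
    (hσ : ∀ z : ℂ, z ^ q = 1 → σ z = z) : ∃ γ : ℂ, σ γ = γ ∧ γ ^ 2 = (ZMod.χ₄ q : ℤ) * q := by
  haveI := Fact.mk hq
  have h2 : ringChar (ZMod q) ≠ 2 := by
    rw [ZMod.ringChar_zmod_n]; rintro rfl; exact absurd ho (by decide)
  let χ : MulChar (ZMod q) ℂ := (quadraticChar (ZMod q)).ringHomComp (Int.castRingHom ℂ)
  have h1 : χ ≠ 1 := (MulChar.ringHomComp_ne_one_iff Int.cast_injective).2
    (quadraticChar_ne_one h2)
  have h3 := gaussSum_sq h1 ((quadraticChar_isQuadratic (ZMod q)).comp _)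
    (ZMod.isPrimitive_stdAddChar q)
  refine ⟨gaussSum χ ZMod.stdAddChar, ?_, ?_⟩
  · rw [gaussSum, map_sum]
    refine sum_congr rfl fun a _ => ?_
    rw [map_mul, hσ (ZMod.stdAddChar a) (by
      rw [← AddChar.map_nsmul_eq_pow, nsmul_eq_mul, ZMod.natCast_self, zero_mul,
        AddChar.map_zero_eq_one])]
    simp [χ]
  · rw [h3, ZMod.card, MulChar.ringHomComp_apply, quadraticChar_neg_one h2, ZMod.card]
    simp

theorem exists_gam (σ : ℂ ≃+* ℂ) {m : ℕ} (hσ : ∀ z : ℂ, z ^ m = 1 → σ z = z) (d : ℕ) :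
    Odd d → d ∣ m → ∃ γ : ℂ, σ γ = γ ∧ γ ^ 2 = (ZMod.χ₄ d : ℤ) * d := by
  induction d using induction_on_primes with
  | zero => intro h; exact absurd h (by decide)
  | one => exact fun _ _ => ⟨1, by simp, by simp⟩
  | prime_mul q a hq ih =>
    intro ho hd
    obtain ⟨h1, h2⟩ := Nat.odd_mul.1 ho
    obtain ⟨γ, hγ, hγ2⟩ := ih h2 ((dvd_mul_left _ _).trans hd)
    obtain ⟨δ, hδ, hδ2⟩ := exists_gauss σ hq h1 fun z hz => hσ z (by
      obtain ⟨c, rfl⟩ := (dvd_mul_right _ _).trans hd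
      rw [pow_mul, hz, one_pow])
    refine ⟨δ * γ, by rw [map_mul, hγ, hδ], ?_⟩
    rw [mul_pow, hγ2, hδ2]
    push_cast [map_mul]
    ring

/-- An automorphism fixing the roots of unity of odd order and inverting those of `2`-power
order, as far as `G` is concerned. -/
structure Sg (G : Type*) [Group G] (σ : ℂ ≃+* ℂ) (k : ℕ) : Prop where
  pow : ∀ a : G → ℂ, IsGeneralizedCharacter G a → ∀ g, σ (a g) = a (g ^ k)
  I : σ Complex.I = -Complex.I
  sq : ∀ g : G, (g ^ k) ^ k = g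
  odd : ∀ g : G, Odd (orderOf g) → g ^ k = g
  two : ∀ (g : G) (j : ℕ), g ^ 2 ^ j = 1 → g ^ k = g⁻¹
  gam : ∀ d : ℕ, Odd d → d ∣ Nat.card G → ∃ γ : ℂ, σ γ = γ ∧ γ ^ 2 = (-1) ^ (d / 2) * d

variable {G : Type*} [Group G] [Finite G]

theorem exists_sg (G : Type*) [Group G] [Finite G] : ∃ σ k, Sg G σ k := by
  obtain ⟨a, m, hm, hn⟩ := Nat.exists_eq_two_pow_mul_odd (Nat.card_pos (α := G)).ne'
  have hc : (2 ^ (a + 2)).Coprime m := Nat.Coprime.pow_left _ (Nat.coprime_two_left.2 hm)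
  obtain ⟨k, hk1, hk2⟩ := Nat.chineseRemainder hc (2 ^ (a + 2) - 1) 1
  have hk3 : k + 1 ≡ 0 [MOD 2 ^ (a + 2)] := by
    have := hk1.add_right 1
    rw [Nat.sub_add_cancel Nat.one_le_two_pow] at this
    exact this.trans (Nat.modEq_zero_iff_dvd.2 dvd_rfl)
  have hk4 : k * k ≡ 1 [MOD 2 ^ (a + 2) * m] := by
    refine (Nat.modEq_and_modEq_iff_modEq_mul hc).1 ⟨?_, by simpa using hk2.mul hk2⟩
    refine Nat.ModEq.add_right_cancel' k ?_
    rw [show k * k + k = k * (k + 1) by ring, add_comm 1 k]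
    exact (by simpa using hk3.mul_left k : k * (k + 1) ≡ 0 [MOD _]).trans hk3.symm
  have hk5 : k.Coprime (2 ^ (a + 2) * m) := Nat.coprime_of_mul_modEq_one k hk4
  have hN : 2 ^ (a + 2) * m ≠ 0 := mul_ne_zero (by positivity) hm.pos.ne'
  obtain ⟨σ, hσ⟩ := exists_ringEquiv_pow hN hk5
  have hg : ∀ g : G, orderOf g ∣ 2 ^ (a + 2) * m := fun g =>
    (orderOf_dvd_natCard g).trans ⟨4, by rw [hn]; ring⟩
  have hfix : ∀ z : ℂ, z ^ m = 1 → σ z = z := fun z hz => by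
    rw [hσ z (by rw [mul_comm, pow_mul, hz, one_pow])]
    conv_rhs => rw [← pow_one z]
    exact pow_eq_pow_of_modEq hk2 hz
  refine ⟨σ, k, fun b hb g => IsGeneralized_map_eq_pow (σ := σ.toRingHom) hσ hb
    (orderOf_dvd_iff_pow_eq_one.1 (hg g)), ?_, fun g => ?_, fun g ho => ?_, fun g j hj => ?_,
    fun d ho hd => ?_⟩
  · have h4 : Complex.I ^ 2 ^ (a + 2) = 1 := by
      rw [pow_add, mul_comm, pow_mul]; norm_num
    rw [hσ _ (by rw [pow_mul, h4, one_pow])]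
    have h5 := pow_eq_pow_of_modEq hk3 h4
    rw [pow_succ, pow_zero] at h5
    linear_combination (-Complex.I) * h5 + Complex.I ^ k * Complex.I_mul_I
  · rw [← pow_mul]
    conv_rhs => rw [← pow_one g]
    exact pow_eq_pow_iff_modEq.2 (hk4.of_dvd (hg g))
  · conv_rhs => rw [← pow_one g]
    refine pow_eq_pow_iff_modEq.2 (hk2.of_dvd ?_)
    exact (Nat.Coprime.pow_right _ (Nat.coprime_two_right.2 ho)).dvd_of_dvd_mul_left (hg g)
  · rw [eq_inv_iff_mul_eq_one, ← pow_succ, ← pow_zero g]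
    refine pow_eq_pow_iff_modEq.2 (hk3.of_dvd ?_)
    refine Nat.Coprime.dvd_of_dvd_mul_right ?_ (hg g)
    exact (Nat.Coprime.pow_left _ (Nat.coprime_two_left.2 hm)).coprime_dvd_left
      (orderOf_dvd_of_pow_eq_one hj)
  · obtain ⟨γ, h1, h2⟩ := exists_gam σ hfix d ho (by
      rw [hn] at hd
      exact (Nat.Coprime.pow_right _ (Nat.coprime_two_right.2 ho)).dvd_of_dvd_mul_left hd)
    refine ⟨γ, h1, ?_⟩
    rw [h2, ZMod.χ₄_eq_neg_one_pow (Nat.odd_iff.1 ho)]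
    simp

theorem Sg.gal {σ : ℂ ≃+* ℂ} {k : ℕ} (h : Sg G σ k) (χ : IrrCharacter G) (g : G) :
    (galIrr σ χ : G → ℂ) g = (χ : G → ℂ) (g ^ k) :=
  h.pow _ (IsIrrCharacter_isGeneralized χ.2) g

theorem Sg.gal_gal {σ : ℂ ≃+* ℂ} {k : ℕ} (h : Sg G σ k) (χ : IrrCharacter G) :
    galIrr σ (galIrr σ χ) = χ := by
  ext g
  rw [h.gal, h.gal, h.sq]

/-- The congruence. -/
theorem Sg.cong {σ : ℂ ≃+* ℂ} {k : ℕ} (h : Sg G σ k) (h2 : Even (Nat.card G)) :
    8 ∣ 2 * Nat.card {x : G // x ^ 2 = 1} + Nat.card G +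
      Nat.card {χ : IrrCharacter G // ¬ 2 ∣ dg χ} +
      2 * Nat.card {χ : IrrCharacter G // ¬ 2 ∣ dg χ ∧ galIrr σ χ ≠ χ} := by
  classical
  have := Fintype.ofFinite G
  obtain ⟨R, hR⟩ := exists_fam (G := G)
  let e : II G ≃ G := Fintype.equivOfCardEq (by rw [card_II, Nat.card_eq_fintype_card])
  obtain ⟨r, s, hr, hs, h3⟩ := det_Psi_sq e hR
  obtain ⟨u, hu, h4⟩ := det_Psi_map e hR σ h.gal_gal
  have h5 : ∀ χ : IrrCharacter G, ∃ γ : ℂ, σ γ = γ ∧
      γ ^ 2 = (-1) ^ (if ¬ 2 ∣ dg χ then dg χ / 2 else 0) * (dg χ : ℂ) ^ (dg χ ^ 2) := fun χ => by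
    by_cases hd : 2 ∣ dg χ
    · obtain ⟨c, hc⟩ := hd.trans (dvd_pow_self (dg χ) two_ne_zero)
      exact ⟨(dg χ : ℂ) ^ c, by simp, by rw [if_neg (not_not.2 hd), hc, ← pow_mul, mul_comm c]; simp⟩
    · have ho : Odd (dg χ) := Nat.not_even_iff_odd.1 fun h => hd h.two_dvd
      obtain ⟨γ, h1, h2⟩ := h.gam _ ho (IsIrrCharacter_charDegree_dvd χ.2)
      obtain ⟨c, hc⟩ := ho.pow (n := 2)
      refine ⟨γ * (dg χ : ℂ) ^ c, by simp [h1], ?_⟩
      rw [if_pos hd, hc, mul_pow, h2]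
      ring
  choose γ hγ hγ2 using h5
  obtain ⟨n, hn⟩ := h2
  generalize hv : ∑ χ : IrrCharacter G, (if ¬ 2 ∣ dg χ then dg χ / 2 else 0) = v
  have h0 := card_ne_zero_complex G
  have h6 : ((Psi e R).det * (∏ χ, γ χ) / (Nat.card G : ℂ) ^ n) ^ 2 = (-1) ^ (r + s + v) := by
    rw [div_pow, mul_pow, ← prod_pow, prod_congr rfl fun χ _ => hγ2 χ, prod_mul_distrib,
      prod_pow_eq_pow_sum, hv, ← pow_mul, mul_two, ← hn, div_eq_iff (pow_ne_zero _ h0), pow_add _ _ v]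
    linear_combination (-1) ^ v * h3
  have h7 : σ ((Psi e R).det * (∏ χ, γ χ) / (Nat.card G : ℂ) ^ n) =
      (-1) ^ u * ((Psi e R).det * (∏ χ, γ χ) / (Nat.card G : ℂ) ^ n) := by
    rw [map_div₀, map_mul, h4, map_prod, prod_congr rfl fun χ _ => hγ χ, map_pow, map_natCast]
    ring
  generalize (Psi e R).det * (∏ χ, γ χ) / (Nat.card G : ℂ) ^ n = W at h6 h7
  have h8 : 2 ∣ r + s + v + u := by
    have hI := h.I
    have hI0 := Complex.I_ne_zero
    rcases Nat.even_or_odd (r + s + v) with hE | hE <;> rcases Nat.even_or_odd u with hU | hU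
    · exact (hE.add hU).two_dvd
    · rw [hE.neg_one_pow, sq_eq_one_iff] at h6
      rw [hU.neg_one_pow] at h7
      rcases h6 with rfl | rfl <;> norm_num at h7
    · rw [hE.neg_one_pow, ← Complex.I_sq, sq_eq_sq_iff_eq_or_eq_neg] at h6
      rw [hU.neg_one_pow, one_mul] at h7
      rcases h6 with rfl | rfl
      · exact absurd (by linear_combination (hI - h7) / 2) hI0
      · rw [map_neg] at h7
        exact absurd (by linear_combination (hI + h7) / 2) hI0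
    · exact (hE.add_odd hU).two_dvd
  have h9 : 8 ∣ ∑ χ : IrrCharacter G, (7 * dg χ ^ 2 + (if ¬ 2 ∣ dg χ then 1 else 0) +
      2 * (if ¬ 2 ∣ dg χ ∧ galIrr σ χ ≠ χ then 1 else 0) + 6 * dg χ +
      4 * (if ¬ 2 ∣ dg χ then dg χ / 2 else 0) +
      2 * (if galIrr σ χ = χ then dg χ ^ 2 else 0)) := by
    refine dvd_sum fun χ _ => ?_
    generalize dg χ = d
    obtain ⟨c, hc⟩ : ∃ c, d = 4 * c ∨ d = 4 * c + 1 ∨ d = 4 * c + 2 ∨ d = 4 * c + 3 :=
      ⟨d / 4, by omega⟩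
    have e1 : (4 * c) ^ 2 = 16 * c ^ 2 := by ring
    have e2 : (4 * c + 1) ^ 2 = 16 * c ^ 2 + 8 * c + 1 := by ring
    have e3 : (4 * c + 2) ^ 2 = 16 * c ^ 2 + 16 * c + 4 := by ring
    have e4 : (4 * c + 3) ^ 2 = 16 * c ^ 2 + 24 * c + 9 := by ring
    by_cases hf : galIrr σ χ = χ <;> simp only [hf, ne_eq, not_true, not_false_eq_true, and_true,
      and_false, if_true, if_false] <;> rcases hc with rfl | rfl | rfl | rfl <;>
      split_ifs <;> omega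
  simp only [pow_two (M := G)]
  rw [Nat.card_eq_fintype_card (α := {χ : IrrCharacter G // ¬ 2 ∣ dg χ}), Fintype.card_subtype,
    Nat.card_eq_fintype_card (α := {χ : IrrCharacter G // ¬ 2 ∣ dg χ ∧ galIrr σ χ ≠ χ}),
    Fintype.card_subtype, card_filter, card_filter]
  simp only [sum_add_distrib, ← mul_sum, sum_dg_sq, hv] at h9
  omega

end Cfsg.Agent.K0D
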