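import Cfsg.Agent.Lib.K0.Gen
import Cfsg.Agent.Lib.H3.Main
import Cfsg.Agent.Lib.Lead.Taussky
import Cfsg.Agent.Lib.H2.Basic

/-!
# Sylow 2-subgroups with abelianization of order four
-/

set_option autoImplicit false
set_option linter.unusedSectionVars false

open Cfsg Cfsg.Agent.H3 Cfsg.Agent.H5 Subgroup Finset
open scoped ComplexConjugate

namespace Cfsg.Agent.K0

open Classical in
theorem two_par {p : ℕ} [hp : Fact p.Prime] {P : Type*} [Group P] [Fintype P] (hP : IsPGroup p P)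
    {a : P → ℂ} (ha : IsCharacter P a) : ∃ e : ℤ, ∑ x with x ∈ _root_.commutator P, a x =
      Nat.card (_root_.commutator P) * (a 1 + p * e) := by
  have hc : (univ.filter fun x => x ∈ _root_.commutator P).card =
      Nat.card (_root_.commutator P) := (Nat.subtype_card _ (by simp)).symm
  refine char_induction (P := fun a => ∃ e : ℤ, ∑ x with x ∈ _root_.commutator P, a x =
      Nat.card (_root_.commutator P) * (a 1 + p * e)) ⟨0, by simp⟩ (fun χ hχ => ?_) ?_ ha
  · by_cases h : ∀ x ∈ _root_.commutator P, χ x = χ 1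
    · refine ⟨0, ?_⟩
      rw [sum_congr rfl fun x hx => h x (mem_filter.1 hx).2, sum_const, hc]
      simp
    push Not at h
    obtain ⟨x, hx, hx1⟩ := h
    have h1 : p ∣ charDegree χ := by
      obtain ⟨n, hn⟩ := hP.exists_card_eq
      obtain ⟨k, -, hk⟩ := (Nat.dvd_prime_pow hp.out).1 (hn ▸ IsIrrCharacter_charDegree_dvd hχ)
      rcases k with _ | k
      · exfalso
        obtain ⟨l, rfl⟩ := IsCharacter_exists_linear (IsIrrCharacter_isCharacter hχ) (by
          rw [← IsCharacter_charDegree (IsIrrCharacter_isCharacter hχ), hk]; simp)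
        apply hx1
        simp only [map_one]
        rw [MonoidHom.mem_ker.1 (Abelianization.commutator_subset_ker l hx)]
      · rw [hk]; exact dvd_pow_self p (Nat.succ_ne_zero k)
    obtain ⟨d, hd⟩ := h1
    refine ⟨-d, ?_⟩
    have hf : IsClassFunction P fun g => if g ∈ _root_.commutator P then (1 : ℂ) else 0 :=
      isClassFunction_iff.2 fun g h hgh => by
        obtain ⟨c, rfl⟩ := isConj_iff.1 hgh
        simp only [Normal.mem_comm_iff (inferInstance : (_root_.commutator P).Normal)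
          (a := c * g), inv_mul_cancel_left]
    have h2 := IsIrrCharacter_sum_mul hχ hf x
    simp only [ite_mul, one_mul, zero_mul, ← sum_filter] at h2
    rw [sum_bijective (t := univ.filter fun x => x ∈ _root_.commutator P) (g := χ) (· * x)
      (Group.mulRight_bijective x) (fun g => by simp [mul_mem_cancel_right hx]) fun _ _ => rfl,
      div_mul_eq_mul_div, eq_div_iff (IsIrrCharacter_apply_one_ne_zero hχ)] at h2
    rw [(mul_eq_mul_left_iff.1 h2).resolve_left hx1.symm,
      ← IsCharacter_charDegree (IsIrrCharacter_isCharacter hχ), hd]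
    push_cast
    ring
  · rintro a b - - ⟨e, he⟩ ⟨f, hf⟩
    refine ⟨e + f, ?_⟩
    simp only [Pi.add_apply, sum_add_distrib, he, hf]
    push_cast
    ring

variable {G : Type*} [Group G] [Finite G]

theorem two_burn (S : Sylow 2 G) {x : G} (hx : x ∈ center G) (hxS : x ∈ (S : Subgroup G))
    (hi : Nat.card S ∣ 2 * orderOf x) :
    normalizer ((S : Subgroup G) : Set G) ≤ centralizer ((S : Subgroup G) : Set G) := by
  have hZ : zpowers x ≤ center G := zpowers_le.2 hx
  have hZS : zpowers x ≤ S := zpowers_le.2 hxS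
  have h1 : ∀ a ∈ (S : Subgroup G), ∀ b ∈ (S : Subgroup G), a ∉ zpowers x → b ∉ zpowers x →
      a⁻¹ * b ∈ zpowers x := fun a ha b hb ha' hb' => by
    have h2 : (zpowers x).relIndex S ∣ 2 := by
      have h3 := (zpowers x).subgroupOf S |>.index_mul_card
      rw [Nat.card_congr (subgroupOfEquivOfLe hZS).toEquiv, Nat.card_zpowers] at h3
      rw [← h3] at hi
      exact Nat.dvd_of_mul_dvd_mul_right (orderOf_pos x) hi
    rcases (Nat.dvd_prime Nat.prime_two).1 h2 with h | h
    · exact absurd (relIndex_eq_one.1 h ha) ha'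
    · have := (mul_mem_iff_of_index_two h (a := ⟨a⁻¹, inv_mem ha⟩) (b := ⟨b, hb⟩)).2
        (by simp [mem_subgroupOf, ha', hb'])
      exact this
  have h2 : (S : Subgroup G) ≤ centralizer ((S : Subgroup G) : Set G) := fun a ha =>
    mem_centralizer_iff.2 fun b hb => by
      by_cases ha' : a ∈ zpowers x
      · exact mem_center_iff.1 (hZ ha') b
      by_cases hb' : b ∈ zpowers x
      · exact (mem_center_iff.1 (hZ hb') a).symm
      have := mem_center_iff.1 (hZ (h1 a ha b hb ha' hb')) a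
      rw [mul_inv_cancel_left] at this
      calc b * a = a * (a⁻¹ * b * a) := by group
        _ = a * b := by rw [← this]
  intro g hg
  refine mem_centralizer_iff.2 fun a ha => ?_
  by_cases ha' : a ∈ zpowers x
  · exact (mem_center_iff.1 (hZ ha') g).symm
  have h3 := h1 a ha _ ((mem_normalizer_iff.1 hg a).1 ha) ha' fun h => ha' (by
    have h4 := mem_center_iff.1 (hZ h) g
    rw [inv_mul_cancel_right, mul_assoc g, mul_right_inj] at h4
    rwa [mul_assoc, h4] at h)
  obtain ⟨z, hz⟩ : ∃ z, z = a⁻¹ * (g * a * g⁻¹) := ⟨_, rfl⟩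
  rw [← hz] at h3
  have h4 : ∀ k : ℕ, g ^ k * a = a * z ^ k * g ^ k := fun k => by
    induction k with
    | zero => simp
    | succ k ih =>
      have h5 := mem_center_iff.1 (hZ (pow_mem h3 k)) g
      calc g ^ (k + 1) * a = g * (g ^ k * a) := by rw [pow_succ', mul_assoc]
        _ = g * a * g⁻¹ * (g * z ^ k) * g ^ k := by rw [ih]; group
        _ = a * z * (z ^ k * g) * g ^ k := by rw [h5, hz]; group
        _ = _ := by group
  have h5 : g ^ (centralizer ((S : Subgroup G) : Set G)).relIndex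
      (normalizer ((S : Subgroup G) : Set G)) ∈ centralizer ((S : Subgroup G) : Set G) :=
    pow_index_mem ((centralizer ((S : Subgroup G) : Set G)).subgroupOf
      (normalizer ((S : Subgroup G) : Set G))) ⟨g, hg⟩
  have h6 := h4 ((centralizer ((S : Subgroup G) : Set G)).relIndex
      (normalizer ((S : Subgroup G) : Set G)))
  rw [← mem_centralizer_iff.1 h5 a ha, mul_left_inj, left_eq_mul, ← orderOf_dvd_iff_pow_eq_one]
    at h6
  obtain ⟨k, hk⟩ := IsPGroup.iff_orderOf.1 S.isPGroup' ⟨z, hZS h3⟩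
  rw [orderOf_mk] at hk
  have h7 : z = 1 := by
    rcases k with _ | k
    · exact orderOf_eq_one_iff.1 hk
    · exact absurd ((hk ▸ dvd_pow_self 2 (Nat.succ_ne_zero k)).trans (h6.trans
        ((relIndex_dvd_index_of_le (centralizer_le_normalizer _)).trans
          (index_dvd_of_le h2)))) S.not_dvd_index
  rw [h7, eq_comm, inv_mul_eq_one, eq_mul_inv_iff_mul_eq] at hz
  exact hz

theorem two_nilp (P : Sylow 2 G) {x : G} (hx : Nat.card P = 2 * orderOf x) :
    ∃ K : Subgroup (centralizer ({x} : Set G)), K.Normal ∧ ¬ 2 ∣ Nat.card K ∧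
      ∃ k : ℕ, K.index = 2 ^ k := by
  obtain ⟨S⟩ : Nonempty (Sylow 2 (centralizer ({x} : Set G))) := inferInstance
  let x' : centralizer ({x} : Set G) := ⟨x, mem_centralizer_singleton_iff.2 rfl⟩
  have hc : x' ∈ center _ := mem_center_iff.2 fun g =>
    Subtype.ext (mem_centralizer_singleton_iff.1 g.2)
  have ho : orderOf x' = orderOf x := orderOf_mk _ _
  have hn : (zpowers x').Normal := ⟨fun y hy g => by
    rwa [mem_center_iff.1 (zpowers_le.2 hc hy) g, mul_inv_cancel_right]⟩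
  obtain ⟨n, hn'⟩ := P.isPGroup'.exists_card_eq
  have hp : IsPGroup 2 (zpowers x') := by
    obtain ⟨k, -, hk⟩ := (Nat.dvd_prime_pow Nat.prime_two).1
      (show orderOf x ∣ 2 ^ n from hn' ▸ hx ▸ dvd_mul_left _ _)
    exact IsPGroup.of_card (by rw [Nat.card_zpowers, ho, hk])
  obtain ⟨K, h1, h2, h3, -⟩ := exists_complement_of_normalizer_le S (two_burn S hc
    (hp.le_sylow_of_normal S (mem_zpowers _)) (by
      rw [ho, ← hx, S.card_eq_multiplicity, P.card_eq_multiplicity]
      exact pow_dvd_pow _ ((Nat.factorization_le_iff_dvd Nat.card_pos.ne' Nat.card_pos.ne').2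
        (card_subgroup_dvd_card _) 2)))
  exact ⟨K, h1, h2, h3⟩

theorem two_conj (P : Sylow 2 G) {x : G} {j : ℕ} (hx : orderOf x = 2 ^ j) {k : ℕ}
    (hk : 2 ^ k ∣ Nat.card (centralizer ({x} : Set G))) :
    {y | y ∈ zpowers x ∧ IsConj x y}.ncard * 2 ^ k ≤ Nat.card P := by
  let f := (zpowers x).normalizerMonoidHom
  have h1 : {y | y ∈ zpowers x ∧ IsConj x y}.ncard ≤ Nat.card f.range := by
    rw [← Set.ncard_univ]
    refine le_trans (Set.ncard_le_ncard ?_) (Set.ncard_image_le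
      (f := fun φ : f.range => ((φ.1 ⟨x, mem_zpowers x⟩ : zpowers x) : G)))
    rintro y ⟨hy, hxy⟩
    obtain ⟨g, rfl⟩ := isConj_iff.1 hxy
    refine ⟨⟨f ⟨g, mem_normalizer_fintype ?_⟩, _, rfl⟩, trivial, rfl⟩
    rintro _ ⟨n, rfl⟩
    simpa only [conj_zpow, SetLike.mem_coe] using zpow_mem hy n
  have h2 : Nat.card f.range ∣ 2 ^ j := by
    refine (card_subgroup_dvd_card _).trans ?_
    rw [IsCyclic.card_mulAut, Nat.card_zpowers, hx]
    rcases j with _ | j
    · simp
    · rw [Nat.totient_prime_pow_succ Nat.prime_two]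
      simpa using pow_dvd_pow 2 (Nat.le_succ j)
  obtain ⟨i, -, hi⟩ := (Nat.dvd_prime_pow Nat.prime_two).1 h2
  have h3 : 2 ^ (i + k) ∣ Nat.card G := by
    refine .trans ?_ (card_subgroup_dvd_card (normalizer ((zpowers x : Subgroup G) : Set G)))
    rw [← f.ker.index_mul_card, index_ker, hi, pow_add, normalizerMonoidHom_ker,
      Nat.card_congr (subgroupOfEquivOfLe (centralizer_le_normalizer _)).toEquiv,
      centralizer_zpowers']
    exact mul_dvd_mul_left _ hk
  rw [P.card_eq_multiplicity]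
  refine (Nat.mul_le_mul_right _ h1).trans ?_
  rw [hi, ← pow_add]
  exact Nat.pow_le_pow_right two_pos
    ((Nat.prime_two.pow_dvd_iff_le_factorization Nat.card_pos.ne').1 h3)

theorem two_cyc {P : Type*} [Group P] [Finite P] (hP : IsPGroup 2 P)
    (h : (_root_.commutator P).index = 4) : ∃ u : P, Nat.card P = 2 * orderOf u := by
  obtain ⟨n, hn⟩ := hP.exists_card_eq
  have h1 : 2 ^ 2 ∣ 2 ^ n := hn ▸ (show 2 ^ 2 = 4 from rfl) ▸ h ▸ index_dvd_card _
  rw [Nat.pow_dvd_pow_iff_le_right one_lt_two] at h1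
  obtain ⟨n, rfl⟩ := Nat.exists_eq_add_of_le' h1
  rcases n with _ | n
  · obtain ⟨u, hu⟩ := exists_prime_orderOf_dvd_card' (G := P) 2 (by rw [hn]; norm_num)
    exact ⟨u, by rw [hn, hu]; norm_num⟩
  · obtain ⟨u, hu⟩ := Lead.exists_orderOf_of_index_commutator n P hn h
    exact ⟨u, by rw [hn, hu]; ring⟩

variable {M : Ideal AlgInt} [PMod 2 M]

open Classical in
theorem two_col (P : Sylow 2 G) {x : G} (hx : Nat.card P = 2 * orderOf x) (S : Finset P)
    (hS : ∀ y ∈ S, (y : G) ∈ zpowers x) :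
    ∃ c : ℕ, c ≤ Nat.card P ∧
      ∑ y ∈ S, ∑ χ ∈ fs (principalBlock M G), (χ : G → ℂ) x * conj ((χ : G → ℂ) y) = c := by
  obtain ⟨K, h1, h2, k, hk⟩ := two_nilp P hx
  obtain ⟨n, hn⟩ := P.isPGroup'.exists_card_eq
  obtain ⟨j, -, hj⟩ := (Nat.dvd_prime_pow Nat.prime_two).1
    (show orderOf x ∣ 2 ^ n from hn ▸ hx ▸ dvd_mul_left _ _)
  have h3 := sum_principal_of_complement (M := M) ⟨j, hj⟩ rfl h2 ⟨k, hk⟩
  refine ⟨(S.filter fun y : P => IsConj x y).card * 2 ^ k, le_trans (Nat.mul_le_mul_right _ ?_)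
    (two_conj P hj (hk ▸ index_dvd_card K)), ?_⟩
  · rw [← Set.ncard_coe_finset]
    exact Set.ncard_le_ncard_of_injOn (fun y : P => (y : G))
      (fun y hy => ⟨hS y (mem_filter.1 hy).1, (mem_filter.1 hy).2⟩) Subtype.val_injective.injOn
  · rw [card_eq_sum_ones, sum_mul, sum_filter, Nat.cast_sum]
    refine sum_congr rfl fun y _ => ?_
    split_ifs with h
    · simp only [← IsClassFunction_of_isConj (IsIrrCharacter_isClassFunction (Subtype.prop _)) h]
      rw [h3, hk, one_mul]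
    · obtain ⟨i, hi⟩ := IsPGroup.iff_orderOf.1 P.isPGroup' y
      rw [block_orthogonality (p := 2) (ZO.og (blk_idem_mem (isPBlock_principal (M := M))))
        (by rwa [pPart_of_pElt ⟨j, hj⟩, pPart_of_pElt ⟨i, by rw [orderOf_coe, hi]⟩]),
        Nat.cast_zero]

open Classical in
theorem two_le (P : Sylow 2 G) (h : (_root_.commutator P).index = 4) :
    Nat.card {χ : IrrCharacter G // χ ∈ principalBlock M G ∧
      ¬ 2 ∣ charDegree (χ : G → ℂ)} ≤ 4 := by
  have := Fintype.ofFinite P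
  obtain ⟨u, hu⟩ := two_cyc P.isPGroup' h
  obtain ⟨m, hm⟩ : ∃ m, Nat.card (_root_.commutator P) = m := ⟨_, rfl⟩
  have hm0 : 0 < m := hm ▸ Nat.card_pos
  have hP : Nat.card P = 4 * m := by rw [← hm, ← h, index_mul_card]
  have ho : orderOf u = 2 * m := by omega
  have hi : (zpowers u).index = 2 := by
    have := (zpowers u).index_mul_card
    rw [Nat.card_zpowers, hu] at this
    exact Nat.eq_of_mul_eq_mul_right (orderOf_pos u) this
  have hn := normal_of_index_eq_two hi
  have hDC : _root_.commutator P ≤ zpowers u := by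
    have : IsCyclic (P ⧸ zpowers u) := isCyclic_of_prime_card (p := 2) hi
    exact Normal.quotient_commutative_iff_commutator_le.1 inferInstance
  have hr : (_root_.commutator P).relIndex (zpowers u) = 2 := by
    have := relIndex_mul_index hDC
    rw [hi, h] at this
    omega
  obtain ⟨S, hS⟩ : ∃ S : Finset P, S = (univ.filter fun x => x ∈ zpowers u) \
    (univ.filter fun x => x ∈ _root_.commutator P) := ⟨_, rfl⟩
  have hsub : (univ.filter fun x => x ∈ _root_.commutator P) ⊆
    (univ.filter fun x => x ∈ zpowers u) := monotone_filter_right _ fun x _ hx => hDC hx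
  have hSc : S.card = m := by
    rw [hS, card_sdiff_of_subset hsub, ← Nat.subtype_card (p := fun x => x ∈ zpowers u) _ (by simp),
      ← Nat.subtype_card (p := fun x => x ∈ _root_.commutator P) _ (by simp), hm,
      Nat.card_zpowers, ho]
    omega
  have hz : ∀ x ∈ S, zpowers x = zpowers u := fun x hx => by
    simp only [hS, mem_sdiff, mem_filter, mem_univ, true_and] at hx
    obtain ⟨k, rfl⟩ := mem_powers_iff_mem_zpowers.2 hx.1
    obtain ⟨n, hn⟩ := IsPGroup.iff_orderOf.1 P.isPGroup' u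
    refine eq_of_le_of_card_ge (zpowers_le.2 hx.1) (le_of_eq ?_)
    rw [Nat.card_zpowers, Nat.card_zpowers, Nat.Coprime.orderOf_pow]
    rw [hn]
    refine Nat.Coprime.pow_left _ ((Nat.Prime.coprime_iff_not_dvd Nat.prime_two).2 ?_)
    rintro ⟨l, rfl⟩
    have := sq_mem_of_index_two hr ⟨u ^ l, npow_mem_zpowers u l⟩
    exact hx.2 (by simp only [pow_mul']; exact this)
  have h1 : ∀ χ : IrrCharacter G, ¬ 2 ∣ charDegree (χ : G → ℂ) →
      (m : ℝ) ^ 2 ≤ ‖∑ x ∈ S, (χ : G → ℂ) x‖ ^ 2 := fun χ hχ => by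
    have ha := IsCharacter_restrict (P : Subgroup G) (IsIrrCharacter_isCharacter χ.2)
    obtain ⟨e, he⟩ := two_par P.isPGroup' ha
    obtain ⟨n, hn⟩ := IsCharacter_classInner (IsCharacter_restrict (zpowers u) ha) isCharacter_one
    rw [classInner, Nat.card_zpowers, ho,
      inv_mul_eq_iff_eq_mul₀ (Nat.cast_ne_zero.2 (by omega))] at hn
    simp only [map_one, mul_one] at hn
    rw [← sum_subtype (univ.filter fun x => x ∈ zpowers u) (by simp)
      (fun x : P => (χ : G → ℂ) x)] at hn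
    have e1 : ∑ x ∈ S, (χ : G → ℂ) x =
        ((m * (2 * (n - e) - charDegree (χ : G → ℂ)) : ℤ) : ℂ) := by
      rw [hS, sum_sdiff_eq_sub hsub, hn, he, hm, OneMemClass.coe_one, ← irr_charDegree]
      push_cast
      ring
    rw [e1, Complex.norm_intCast, sq_abs]
    have e2 : 1 ≤ (2 * (n - e) - charDegree (χ : G → ℂ) : ℤ) ^ 2 := by
      rw [one_le_sq_iff_one_le_abs]
      exact Int.one_le_abs (by omega)
    have e3 : (m : ℤ) ^ 2 ≤ (m * (2 * (n - e) - charDegree (χ : G → ℂ))) ^ 2 := by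
      rw [mul_pow]; exact le_mul_of_one_le_right (sq_nonneg _) e2
    exact_mod_cast e3
  have h2 : ∑ χ ∈ fs (principalBlock M G), ‖∑ x ∈ S, (χ : G → ℂ) x‖ ^ 2 ≤ m * (4 * m) := by
    choose! c hc1 hc2 using fun x (hx : x ∈ S) => two_col (M := M) P (x := x)
      (by rw [orderOf_coe, ← Nat.card_zpowers, hz x hx, Nat.card_zpowers, hu]) S fun y hy => by
        have : y ∈ zpowers x := hz x hx ▸ hz y hy ▸ mem_zpowers y
        obtain ⟨k, rfl⟩ := this
        exact ⟨k, by simp⟩
    have e1 : ∑ χ ∈ fs (principalBlock M G), ‖∑ x ∈ S, (χ : G → ℂ) x‖ ^ 2 =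
        ((∑ x ∈ S, c x : ℕ) : ℝ) := by
      apply Complex.ofReal_injective
      push_cast
      simp only [← Complex.mul_conj', map_sum, sum_mul_sum]
      rw [sum_comm]
      exact sum_congr rfl fun x hx => sum_comm.trans (hc2 x hx)
    rw [e1]
    have e2 := sum_le_card_nsmul S c _ hc1
    rw [hSc, hP, smul_eq_mul] at e2
    exact_mod_cast e2
  rw [Nat.subtype_card ((fs (principalBlock M G)).filter fun χ : IrrCharacter G =>
    ¬ 2 ∣ charDegree (χ : G → ℂ)) (fun χ => by rw [mem_filter, mem_fs])]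
  have h3 := (card_nsmul_le_sum _ _ _ fun χ (hχ : χ ∈ (fs (principalBlock M G)).filter
    fun χ : IrrCharacter G => ¬ 2 ∣ charDegree (χ : G → ℂ)) => h1 χ (mem_filter.1 hχ).2).trans
    ((sum_le_sum_of_subset_of_nonneg (filter_subset _ _) fun _ _ _ => sq_nonneg _).trans h2)
  rw [nsmul_eq_mul] at h3
  have h4 : (0 : ℝ) < m ^ 2 := by positivity
  exact_mod_cast le_of_mul_le_mul_right (h3.trans_eq (by ring : _ = (4 : ℝ) * m ^ 2)) h4

theorem two_even (hG : 2 ∣ Nat.card G) : 2 ∣ Nat.card {χ : IrrCharacter G //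
    χ ∈ principalBlock M G ∧ ¬ 2 ∣ charDegree (χ : G → ℂ)} := by
  classical
  have e1 := dvd_sum_rr_sq (M := M) hG
  rw [← ZMod.intCast_zmod_eq_zero_iff_dvd] at e1
  push_cast at e1
  simp only [sq_two, sum_boole] at e1
  rw [Nat.subtype_card (univ.filter fun χ : IrrCharacter G => (rr M χ : ZMod 2) ≠ 0) fun χ => by
    rw [mem_filter, ← dvd_rr_iff, Ne, ZMod.intCast_zmod_eq_zero_iff_dvd]; simp,
    ← ZMod.natCast_eq_zero_iff]
  convert e1

/-- `|P : P'| = 4` gives four characters of odd degree in the principal block. -/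
theorem count_two (P : Sylow 2 G) (h : (_root_.commutator P).index = 4) :
    Nat.card {χ : IrrCharacter G // χ ∈ principalBlock M G ∧
      ¬ 2 ∣ charDegree (χ : G → ℂ)} = 4 := by
  have h4 : 4 ∣ Nat.card P := h ▸ index_dvd_card _
  have h1 := two_le (M := M) P h
  have h2 := two_even (M := M) (G := G)
    ((Dvd.intro 2 rfl).trans (h4.trans (card_subgroup_dvd_card _)))
  have h3 : 0 < Nat.card {χ : IrrCharacter G // χ ∈ principalBlock M G ∧
      ¬ 2 ∣ charDegree (χ : G → ℂ)} := by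
    have : Nonempty {χ : IrrCharacter G // χ ∈ principalBlock M G ∧
      ¬ 2 ∣ charDegree (χ : G → ℂ)} :=
      ⟨⟨trivChar G, (dvd_rr_iff _).1 (by rw [rr_triv (p := 2)]; norm_num)⟩⟩
    exact Nat.card_pos
  have h5 := card_of_count (M := M) P (Or.inl rfl)
  omega

theorem two_four_dvd {Γ Y : Type*} [Group Γ] [MulAction Γ Y] [Finite Y] (hΓ : IsPGroup 2 Γ)
    (h : ∀ y : Y, 2 < (MulAction.orbit Γ y).ncard) : 4 ∣ Nat.card Y := by
  have := Fintype.ofFinite (MulAction.orbitRel.Quotient Γ Y)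
  rw [Nat.card_congr (MulAction.selfEquivSigmaOrbits Γ Y), Nat.card_sigma]
  refine dvd_sum fun w _ => ?_
  obtain ⟨n, hn⟩ := hΓ.card_orbit w.out
  have h1 := h w.out
  rw [← Nat.card_coe_set_eq, hn] at h1
  rw [hn]
  exact pow_dvd_pow 2 ((Nat.pow_lt_pow_iff_right (n := 1) one_lt_two).1 h1)

/-- The central involutions of `P` commuting with `x`. -/
def twoV (P : Subgroup G) (x : G) : Subgroup G where
  carrier := {z | z ∈ P ∧ (∀ a ∈ P, Commute a z) ∧ z ^ 2 = 1 ∧ Commute x z}
  one_mem' := ⟨one_mem _, fun _ _ => Commute.one_right _, one_pow _, Commute.one_right _⟩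
  mul_mem' := fun {z w} hz hw => ⟨mul_mem hz.1 hw.1, fun a ha => (hz.2.1 a ha).mul_right
    (hw.2.1 a ha), by rw [(hw.2.1 z hz.1).mul_pow, hz.2.2.1, hw.2.2.1, one_mul],
    hz.2.2.2.mul_right hw.2.2.2⟩
  inv_mem' := fun {z} hz => ⟨inv_mem hz.1, fun a ha => (hz.2.1 a ha).inv_right,
    by rw [inv_pow, hz.2.2.1, inv_one], hz.2.2.2.inv_right⟩

theorem two_fib (P : Sylow 2 G) (h : 4 ∣ Nat.card G) (V : Subgroup G) :
    4 ∣ Nat.card {y : {x : G // x ^ 2 = 1 ∧ x ∉ (P : Subgroup G)} // twoV P y.1 = V} := by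
  rcases isEmpty_or_nonempty
    {y : {x : G // x ^ 2 = 1 ∧ x ∉ (P : Subgroup G)} // twoV P y.1 = V} with h0 | ⟨⟨x0, hx0⟩⟩
  · simp
  have hV : ∀ v : V, v.1 ∈ (P : Subgroup G) ∧ ∀ a ∈ (P : Subgroup G), Commute a v := fun v =>
    ⟨(hx0.ge v.2).1, (hx0.ge v.2).2.1⟩
  let _ : MulAction (P × V)
      {y : {x : G // x ^ 2 = 1 ∧ x ∉ (P : Subgroup G)} // twoV P y.1 = V} :=
    { smul := fun g y => ⟨⟨g.1 * y.1.1 * (g.1 : G)⁻¹ * g.2, by
        obtain ⟨-, h1, h2, h3⟩ := y.2.ge g.2.2
        rw [(((h1 _ g.1.2).mul_left h3).mul_left (h1 _ g.1.2).inv_left).mul_pow, h2, conj_pow,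
          y.1.2.1]
        simp, fun h => y.1.2.2 (by
          rwa [mul_mem_cancel_right (hV g.2).1, mul_mem_cancel_right (inv_mem g.1.2),
            mul_mem_cancel_left g.1.2] at h)⟩, by
        refine Eq.trans ?_ y.2
        ext z
        refine and_congr_right fun _ => and_congr_right fun h1 => and_congr_right fun _ =>
          ⟨fun h => ?_, fun h => (((h1 _ g.1.2).mul_left h).mul_left
            (h1 _ g.1.2).inv_left).mul_left (h1 _ (hV g.2).1)⟩
        simpa using (h1 _ g.1.2).inv_left.mul_left ((h.mul_left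
          (h1 _ (hV g.2).1).inv_left).mul_left (h1 _ g.1.2))⟩
      one_smul := fun y => Subtype.ext (Subtype.ext (by
        change ((1 : P) : G) * y.1.1 * ((1 : P) : G)⁻¹ * ((1 : V) : G) = _
        simp))
      mul_smul := fun g k y => Subtype.ext (Subtype.ext (by
        change ((g.1 * k.1 : P) : G) * y.1.1 * ((g.1 * k.1 : P) : G)⁻¹ * ((g.2 * k.2 : V) : G) =
          g.1 * (k.1 * y.1.1 * (k.1 : G)⁻¹ * k.2) * (g.1 : G)⁻¹ * g.2
        have h1 := (((hV k.2).2 _ g.1.2).inv_left.mul_left ((hV k.2).2 _ (hV g.2).1)).eq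
        push_cast
        calc _ = g.1 * (k.1 * y.1.1 * (k.1 : G)⁻¹) * ((g.1 : G)⁻¹ * g.2 * k.2) := by group
          _ = _ := by rw [h1]; group)) }
  have hs : ∀ (g : P × V) (y : {y : {x : G // x ^ 2 = 1 ∧ x ∉ (P : Subgroup G)} //
    twoV P y.1 = V}), (g • y).1.1 = g.1 * y.1.1 * (g.1 : G)⁻¹ * g.2 := fun _ _ => rfl
  have hP := P.isPGroup'
  have hPV : IsPGroup 2 (P × V) := by
    obtain ⟨n, hn⟩ := hP.exists_card_eq
    obtain ⟨m, hm⟩ := (hP.to_le fun v hv => (hV ⟨v, hv⟩).1).exists_card_eq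
    exact IsPGroup.of_card (by rw [Nat.card_prod, hn, hm, ← pow_add])
  refine two_four_dvd hPV fun y => ?_
  by_contra h2
  rw [not_lt] at h2
  have h3 : ((MulAction.stabilizer (P × V) y).comap (MonoidHom.inl P V)).index ≤ 2 := by
    rw [index_comap]
    exact (relIndex_le_of_le_right le_top (by
      rw [relIndex_top_right]; exact FiniteIndex.index_ne_zero)).trans
      (by rwa [relIndex_top_right, MulAction.index_stabilizer])
  generalize hQ : (MulAction.stabilizer (P × V) y).comap (MonoidHom.inl P V) = Q at h3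
  have h4 : 4 ∣ Nat.card P := by
    rw [P.card_eq_multiplicity]
    exact pow_dvd_pow 2 ((Nat.prime_two.pow_dvd_iff_le_factorization (k := 2)
      Nat.card_pos.ne').1 h)
  have h5 : Q.index = 1 ∨ Q.index = 2 := by
    have : Q.index ≠ 0 := FiniteIndex.index_ne_zero
    omega
  have hn : Q.Normal := by
    rcases h5 with h5 | h5
    · rw [index_eq_one.1 h5]; infer_instance
    · exact normal_of_index_eq_two h5
  have := hP.isNilpotent
  have h6 := H2.inf_center_ne_bot Q (by
    rintro rfl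
    rw [index_bot] at h5
    omega)
  obtain ⟨⟨z, hz0⟩, hz⟩ := exists_prime_orderOf_dvd_card' (G := ↥(Q ⊓ center P)) 2
    (((hP.to_subgroup _).card_eq_or_dvd).resolve_left (by rwa [Subgroup.card_eq_one]))
  rw [orderOf_mk, ← orderOf_coe] at hz
  obtain ⟨hz1, hz2⟩ := mem_inf.1 hz0
  have hzV : (z : G) ∈ V := y.2.le ⟨z.2, fun a ha => congrArg Subtype.val
    (mem_center_iff.1 hz2 ⟨a, ha⟩), orderOf_dvd_iff_pow_eq_one.1 hz.dvd, by
      rw [← hQ] at hz1
      have := congrArg (fun t => t.1.1) (MulAction.mem_stabilizer_iff.1 hz1)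
      simp only [hs, MonoidHom.inl_apply, OneMemClass.coe_one, mul_one,
        mul_inv_eq_iff_eq_mul] at this
      exact this.symm⟩
  have h7 : MulAction.orbit (P × V) y = {y, ((1 : P), (⟨z, hzV⟩ : V)) • y} := by
    refine (Set.eq_of_subset_of_ncard_le (Set.pair_subset (MulAction.mem_orbit_self y)
      (MulAction.mem_orbit y _)) ?_).symm
    rwa [Set.ncard_pair fun h => ?_]
    have := congrArg (fun t => t.1.1) h
    simp only [hs, OneMemClass.coe_one, one_mul, inv_one, mul_one, left_eq_mul] at this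
    rw [this, orderOf_one] at hz
    omega
  have h8 : y.1.1⁻¹ ∈ normalizer ((P : Subgroup G) : Set G) := mem_normalizer_fintype fun a ha => by
    have h9 := h7.le (MulAction.mem_orbit y ((⟨a, ha⟩ : P), (1 : V)))
    have h10 : y.1.1⁻¹ * a * y.1.1⁻¹⁻¹ = y.1.1⁻¹ * (a * y.1.1 * a⁻¹) * a := by group
    rw [h10]
    rcases h9 with h9 | h9 <;> have := congrArg (fun t => t.1.1) h9 <;>
      simp only [hs, OneMemClass.coe_one, one_mul, inv_one, mul_one] at this <;> rw [this]
    · simpa using ha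
    · rw [inv_mul_cancel_left]; exact mul_mem z.2 ha
  have h9 : IsPGroup 2 (zpowers y.1.1) := by
    obtain ⟨k, -, hk⟩ := (Nat.dvd_prime_pow (m := 1) Nat.prime_two).1
      (orderOf_dvd_of_pow_eq_one y.1.2.1)
    exact IsPGroup.of_card (by rw [Nat.card_zpowers, hk])
  exact y.1.2.2 ((h9.inf_normalizer_sylow P).le
    (mem_inf.2 ⟨mem_zpowers _, inv_mem_iff.1 h8⟩)).2

/-- The number of solutions of `x ^ 2 = 1` modulo four. -/
theorem inv_mod_four (P : Sylow 2 G) (h : 4 ∣ Nat.card G) :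
    Nat.card {x : G // x ^ 2 = 1} ≡ Nat.card {x : P // x ^ 2 = 1} [MOD 4] := by
  classical
  have h1 : 4 ∣ Nat.card {x : G // x ^ 2 = 1 ∧ x ∉ (P : Subgroup G)} := by
    have := Fintype.ofFinite (Subgroup G)
    rw [← Nat.card_congr (Equiv.sigmaFiberEquiv
      fun y : {x : G // x ^ 2 = 1 ∧ x ∉ (P : Subgroup G)} => twoV P y.1), Nat.card_sigma]
    exact dvd_sum fun V _ => two_fib P h V
  have h2 : Nat.card {x : P // x ^ 2 = 1} =
      Nat.card {x : G // x ^ 2 = 1 ∧ x ∈ (P : Subgroup G)} := Nat.card_congr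
    ⟨fun x => ⟨x.1, congrArg Subtype.val x.2, x.1.2⟩, fun x => ⟨⟨x.1, x.2.2⟩, Subtype.ext x.2.1⟩,
      fun _ => rfl, fun _ => rfl⟩
  have h3 : Nat.card {x : G // x ^ 2 = 1 ∧ x ∈ (P : Subgroup G)} +
      Nat.card {x : G // x ^ 2 = 1 ∧ x ∉ (P : Subgroup G)} = Nat.card {x : G // x ^ 2 = 1} :=
    Set.ncard_inter_add_ncard_diff_eq_ncard {x : G | x ^ 2 = 1} (P : Subgroup G)
  rw [h2, Nat.ModEq]
  omega

end Cfsg.Agent.K0
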